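import Groth.Prelude.Def_Red
import Groth.Prelude.Def_SGA3x
import Mathlib.Algebra.Polynomial.Laurent
import Mathlib.AlgebraicGeometry.Morphisms.Smooth
import Mathlib.RingTheory.RingHom.Smooth
import Mathlib.RingTheory.TensorProduct.MonoidAlgebra
import Mathlib.AlgebraicGeometry.Pullbacks

/-! The multiplicative group over an arbitrary base is smooth with connected fibres. -/

set_option autoImplicit false
set_option backward.isDefEq.respectTransparency.types false
set_option linter.style.haveILetI false

universe u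

open CategoryTheory CategoryTheory.Limits AlgebraicGeometry
open scoped LaurentPolynomial TensorProduct Polynomial

namespace Groth.Agent.MultExt26

theorem smooth_laurent (R : Type u) [CommRing R] : Algebra.Smooth R R[T;T⁻¹] := by
  haveI : Algebra.Smooth R[X] R[T;T⁻¹] := Algebra.Smooth.of_isLocalization_Away (Polynomial.X : R[X])
  haveI : Algebra.Smooth R R[X] := ⟨inferInstance, inferInstance⟩
  haveI : IsScalarTower R R[X] R[T;T⁻¹] := .of_algebraMap_eq fun x => by simp [LaurentPolynomial.algebraMap_eq_toLaurent]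
  exact Algebra.Smooth.comp R R[X] R[T;T⁻¹]

theorem smooth_gmBase (S : Scheme.{u}) : Smooth (Red.Gm S).hom := by
  let R := ULift.{u} ℤ
  haveI := smooth_laurent R
  haveI : Algebra.Smooth R (MonoidAlgebra R (Multiplicative ℤ)) :=
    Algebra.Smooth.of_equiv (AddMonoidAlgebra.toMultiplicativeAlgEquiv R R ℤ)
  haveI : Smooth (Spec.map (CommRingCat.ofHom (algebraMap R (MonoidAlgebra R (Multiplicative ℤ))))) := by
    rw [HasRingHomProperty.Spec_iff (P := @Smooth)]
    exact RingHom.smooth_algebraMap.2 inferInstance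
  exact MorphismProperty.pullback_snd (P := @Smooth) _ _ this

theorem isDomain_tensor (R L : Type u) [CommRing R] [Field L] [Algebra R L] :
    IsDomain (L ⊗[R] MonoidAlgebra R (Multiplicative ℤ)) := by
  haveI : IsDomain (MonoidAlgebra L (Multiplicative ℤ)) := NoZeroDivisors.to_isDomain _
  exact (MonoidAlgebra.scalarTensorEquiv R L (M := Multiplicative ℤ)).toRingEquiv.toMulEquiv.isDomain _

theorem connectedSpace_diag_fibre (R L : Type u) [CommRing R] [Field L] (φ : R →+* L) :
    ConnectedSpace ↥(pullback (Red.diag R ℤ).hom (Spec.map (CommRingCat.ofHom φ))) := by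
  letI : Algebra R L := φ.toAlgebra
  haveI := isDomain_tensor R L
  let i : pullback (Red.diag R ℤ).hom (Spec.map (CommRingCat.ofHom φ)) ≅
      Spec (CommRingCat.of (L ⊗[R] MonoidAlgebra R (Multiplicative ℤ))) :=
    pullbackSymmetry _ _ ≪≫ pullbackSpecIso R L (MonoidAlgebra R (Multiplicative ℤ))
  exact i.hom.homeomorph.connectedSpace_iff.mpr inferInstance

theorem connectedSpace_gm_fibre (S : Scheme.{u}) {L : Type u} [Field L] (c : Spec (CommRingCat.of L) ⟶ S) :
    ConnectedSpace ↥(pullback (Red.Gm S).hom c) := by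
  have hc : c ≫ IsTerminal.from specULiftZIsTerminal S =
      Spec.map (CommRingCat.ofHom ((Int.castRingHom L).comp ULift.ringEquiv.{0, u}.toRingHom)) :=
    specULiftZIsTerminal.hom_ext _ _
  haveI := connectedSpace_diag_fibre (ULift.{u} ℤ) L ((Int.castRingHom L).comp ULift.ringEquiv.toRingHom)
  exact (pullbackLeftPullbackSndIso _ _ c ≪≫ pullback.congrHom rfl hc).hom.homeomorph.connectedSpace_iff.mpr this

theorem isMultTypeFT_of_torus {S : Scheme.{u}} (T : Over S) [GrpObj T] (hT : Red.IsTorus T) : SGA3x.IsMultTypeFT T := by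
  obtain ⟨S', f, hfl, hs, hq, hU⟩ := hT
  refine ⟨S', f, hfl, hs, hq, fun s => ?_⟩
  obtain ⟨U, hsU, r, hr⟩ := hU s
  exact ⟨U, hsU, Fin r → ℤ, inferInstance, inferInstance, hr⟩

end Groth.Agent.MultExt26
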