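import Groth.Agent.MultExt26.Affine
import Groth.Agent.IsoTriv.SchemeBridge
import Groth.Agent.SGA3cLib.CentralDescent
import Groth.Agent.AbSchLib.SmoothReduced

/-! Extension of homomorphisms from the generic fibre of a smooth group with connected fibres into a group of
multiplicative type over a normal base. -/

set_option autoImplicit false
set_option backward.isDefEq.respectTransparency.types false
set_option linter.style.haveILetI false

universe u

open CategoryTheory CategoryTheory.Limits MonoidalCategory CartesianMonoidalCategory MonObj AlgebraicGeometry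

namespace Groth.Agent.MultExt26

theorem eta_sp_left {R A : Type u} [CommRing R] [CommRing A] [HopfAlgebra R A] :
    (η[CoactBr.sp R A] : 𝟙_ _ ⟶ CoactBr.sp R A).left =
      Spec.map (CommRingCat.ofHom (Bialgebra.counitAlgHom R A).toRingHom) := by
  have h : (1 : CoactBr.sp R R ⟶ CoactBr.sp R A) = HopfLib.SpPoints.unitIso.hom ≫ η[CoactBr.sp R A] := by
    rw [Hom.one_def]
    congr 1
    exact toUnit_unique _ _
  rw [CoactBr.one_eq_pt] at h
  have h2 := congrArg CommaMorphism.left h
  exact h2.symm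

variable {S : Scheme.{u}}

theorem isIso_residue_genericPoint [IsIntegral S] : IsIso (S.residue (genericPoint S)) := by
  rw [ConcreteCategory.isIso_iff_bijective]
  exact ⟨RingHom.injective (R := S.functionField) _, Scheme.residue_surjective _ _⟩

/-- The extension over an affine open of the source lying above an affine open of the base. -/
theorem extend_local [IsIntegral S] [IsLocallyNoetherian S]
    (hnorm : ∀ x : S, IsIntegrallyClosed (S.presheaf.stalk x))
    (H T : Over S) [GrpObj H] [GrpObj T] [Smooth H.hom]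
    (hconn : ∀ s : S, ConnectedSpace ↥(pullback H.hom (S.fromSpecResidueField s)))
    (hT : SGA3x.IsMultTypeFT T)
    {Q : Scheme.{u}} (g : Q ⟶ S) (q : Spec (CommRingCat.of S.functionField) ⟶ Q)
    (q' : Q ⟶ Spec (CommRingCat.of S.functionField)) (hqg : q ≫ g = S.fromSpecStalk (genericPoint S))
    (hq'g : q' ≫ S.fromSpecStalk (genericPoint S) = g) (hqq : q' ≫ q = 𝟙 Q)
    (uη : Red.bc g H ⟶ Red.bc g T)
    [IsMonHom uη] {U : S.Opens} (hU : IsAffineOpen U) [Nonempty U] {W : H.left.Opens} (hW : IsAffineOpen W)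
    (hWU : W ≤ H.hom ⁻¹ᵁ U) :
    ∃ w : (W : Scheme.{u}) ⟶ T.left, w ≫ T.hom = W.ι ≫ H.hom ∧
      ∀ (Z : Scheme.{u}) (z : Z ⟶ (Red.bc g H).left) (b : Z ⟶ (W : Scheme.{u})),
        z ≫ pullback.fst _ _ = b ≫ W.ι →
          z ≫ uη.left ≫ pullback.fst T.hom g = b ≫ w := by
  haveI : IsNoetherianRing Γ(S, U) := IsLocallyNoetherian.component_noetherian ⟨U, hU⟩
  haveI : IsIntegrallyClosed Γ(S, U) := IsIntegrallyClosed.of_localization_maximal fun p _ _ => by
    let y : PrimeSpectrum Γ(S, U) := ⟨p, Ideal.IsMaximal.isPrime inferInstance⟩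
    have hy : hU.fromSpec y ∈ U := hU.range_fromSpec.le ⟨y, rfl⟩
    letI := TopCat.Presheaf.algebra_section_stalk S.presheaf ⟨hU.fromSpec y, hy⟩
    letI : Algebra Γ(S, U) (S.presheaf.stalk (hU.fromSpec y)) :=
      TopCat.Presheaf.algebra_section_stalk S.presheaf ⟨hU.fromSpec y, hy⟩
    haveI : IsLocalization p.primeCompl (S.presheaf.stalk (hU.fromSpec y)) := hU.isLocalization_stalk' y hy
    haveI := hnorm (hU.fromSpec y)
    exact IsIntegrallyClosed.of_equiv
      (IsLocalization.algEquiv p.primeCompl (S.presheaf.stalk (hU.fromSpec y)) (Localization.AtPrime p)).toRingEquiv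
  let f : Spec (CommRingCat.of Γ(S, U)) ⟶ S := hU.fromSpec
  haveI : IsOpenImmersion f := inferInstanceAs (IsOpenImmersion hU.fromSpec)
  haveI : IsFractionRing Γ(S, U) S.functionField := functionField_isFractionRing_of_isAffineOpen S U hU
  letI : GrpObj (Red.bc f H) := Red.grpObj_bc f H
  letI : GrpObj (Red.bc f T) := Red.grpObj_bc f T
  haveI : Smooth (Red.bc f H).hom := inferInstanceAs (Smooth (pullback.snd H.hom f))
  have hconnX : ∀ y : Spec (CommRingCat.of Γ(S, U)),
      ConnectedSpace ↥(pullback (Red.bc f H).hom ((Spec (CommRingCat.of Γ(S, U))).fromSpecResidueField y)) := fun y =>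
    (pullbackLeftPullbackSndIso H.hom f _).hom.homeomorph.connectedSpace_iff.mpr (connectedSpace_fibre H hconn _)
  obtain ⟨A, _, _, hft, hA, ⟨e₀⟩⟩ :=
    IsoTriv.SchemeBridge.exists_hopf (Red.bc f T) (SGA3cLib.CentralDescent.isMultTypeFT_bc f T hT)
  let e : Red.bc f T ≅ CoactBr.sp Γ(S, U) A := (Grp.forget _).mapIso e₀
  obtain ⟨eh, rfl'⟩ : ∃ m : (Red.bc f T).left ⟶ Spec (CommRingCat.of A), m = e.hom.left := ⟨_, rfl⟩
  obtain ⟨ei, rfl''⟩ : ∃ m : Spec (CommRingCat.of A) ⟶ (Red.bc f T).left, m = e.inv.left := ⟨_, rfl⟩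
  have heh : eh ≫ Spec.map (CommRingCat.ofHom (algebraMap Γ(S, U) A)) = (Red.bc f T).hom := by
    subst rfl'; exact Over.w e.hom
  have hei : ei ≫ pullback.snd T.hom f = Spec.map (CommRingCat.ofHom (algebraMap Γ(S, U) A)) := by
    subst rfl''; exact Over.w e.inv
  have hehi : eh ≫ ei = 𝟙 _ := by
    subst rfl' rfl''; exact congrArg CommaMorphism.left e.hom_inv_id
  have heη : (η[Red.bc f T] : 𝟙_ _ ⟶ Red.bc f T) ≫ e.hom = η[CoactBr.sp Γ(S, U) A] :=
    IsMonHom.one_hom (f := e₀.hom.hom.hom)
  -- the generic point seen in the two ways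
  let gm := genMap (R := Γ(S, U)) S.functionField
  have hgm : gm ≫ f = S.fromSpecStalk (genericPoint S) := by
    rw [← hU.fromSpecStalk_eq_fromSpecStalk ((genericPoint_spec S).mem_open_set_iff U.2 |>.mpr (by
      obtain ⟨x⟩ := ‹Nonempty U›
      exact ⟨x.1, trivial, x.2⟩))]
    rfl
  have hq : q ≫ g = gm ≫ f := by
    rw [hgm, hqg]
  let zY : pullback (Red.bc f H).hom gm ⟶ (Red.bc g H).left :=
    pullback.lift (pullback.fst _ _ ≫ pullback.fst H.hom f) (pullback.snd _ _ ≫ q) (by
      rw [Category.assoc, Category.assoc, pullback.condition, hq, ← pullback.condition_assoc]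
      rfl)
  have hzY1 : zY ≫ pullback.fst H.hom g = pullback.fst _ _ ≫ pullback.fst H.hom f := pullback.lift_fst _ _ _
  have hzY2 : zY ≫ pullback.snd H.hom g = pullback.snd _ _ ≫ q := pullback.lift_snd _ _ _
  have huT : uη.left ≫ pullback.snd T.hom g = pullback.snd H.hom g := Over.w uη
  let tT : pullback (Red.bc f H).hom gm ⟶ (Red.bc f T).left :=
    pullback.lift (zY ≫ uη.left ≫ pullback.fst T.hom g) (pullback.fst _ _ ≫ (Red.bc f H).hom) (by
      rw [Category.assoc, Category.assoc, pullback.condition, reassoc_of% huT, reassoc_of% hzY2, hq,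
        ← pullback.condition_assoc, Category.assoc])
  let t : pullback (Red.bc f H).hom gm ⟶ Spec (CommRingCat.of A) := tT ≫ eh
  have ht : t ≫ Spec.map (CommRingCat.ofHom (algebraMap Γ(S, U) A)) = pullback.fst _ _ ≫ (Red.bc f H).hom := by
    refine (Category.assoc _ _ _).trans ?_
    rw [heh]
    exact pullback.lift_snd _ _ _
  have h1 : genUnit S.functionField (Red.bc f H) ≫ t =
      gm ≫ Spec.map (CommRingCat.ofHom (Bialgebra.counitAlgHom Γ(S, U) A).toRingHom) := by
    rw [← eta_sp_left, ← heη, show ((η[Red.bc f T] : 𝟙_ _ ⟶ Red.bc f T) ≫ e.hom).left = (η[Red.bc f T] : 𝟙_ _ ⟶ Red.bc f T).left ≫ eh by subst rfl'; rfl]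
    suffices hu : genUnit S.functionField (Red.bc f H) ≫ tT = gm ≫ (η[Red.bc f T] : 𝟙_ _ ⟶ Red.bc f T).left by
      rw [show t = tT ≫ eh from rfl, reassoc_of% hu]
    have hk1 : genUnit S.functionField (Red.bc f H) ≫ pullback.fst (Red.bc f H).hom gm =
        gm ≫ (η[Red.bc f H] : 𝟙_ _ ⟶ Red.bc f H).left := pullback.lift_fst _ _ _
    have hk2 : genUnit S.functionField (Red.bc f H) ≫ pullback.snd (Red.bc f H).hom gm = 𝟙 _ := pullback.lift_snd _ _ _
    have hz : genUnit S.functionField (Red.bc f H) ≫ zY = q ≫ (η[Red.bc g H] : 𝟙_ _ ⟶ Red.bc g H).left := by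
      apply pullback.hom_ext
      · simp only [Category.assoc]
        rw [hzY1, reassoc_of% hk1]
        erw [eta_bc_fst f H, eta_bc_fst g H]
        rw [reassoc_of% hq]
      · simp only [Category.assoc]
        rw [hzY2, reassoc_of% hk2]
        erw [show (η[Red.bc g H] : 𝟙_ _ ⟶ Red.bc g H).left ≫ pullback.snd H.hom g = 𝟙 _ from Over.w η[Red.bc g H]]
        exact (Category.comp_id q).symm
    have huone : (η[Red.bc g H] : 𝟙_ _ ⟶ Red.bc g H).left ≫ uη.left = (η[Red.bc g T] : 𝟙_ _ ⟶ Red.bc g T).left :=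
      congrArg CommaMorphism.left (IsMonHom.one_hom (f := uη))
    apply pullback.hom_ext
    · simp only [Category.assoc, tT, pullback.lift_fst]
      rw [reassoc_of% hz, reassoc_of% huone]
      erw [eta_bc_fst f T, eta_bc_fst g T]
      rw [reassoc_of% hq]
    · simp only [Category.assoc, tT, pullback.lift_snd]
      rw [reassoc_of% hk1]
      erw [show (η[Red.bc f H] : 𝟙_ _ ⟶ Red.bc f H).left ≫ (Red.bc f H).hom = 𝟙 _ from Over.w η[Red.bc f H],
        show (η[Red.bc f T] : 𝟙_ _ ⟶ Red.bc f T).left ≫ pullback.snd T.hom f = 𝟙 _ from Over.w η[Red.bc f T]]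
  -- the affine open
  haveI : IsAffine (W : Scheme.{u}) := hW
  let c : (W : Scheme.{u}) ⟶ (Red.bc f H).left := IsOpenImmersion.lift (pullback.fst H.hom f) W.ι (by
    rw [Scheme.Pullback.range_fst, Scheme.Opens.range_ι, show Set.range f = (U : Set S) from hU.range_fromSpec]
    exact hWU)
  have hc : c ≫ pullback.fst H.hom f = W.ι := IsOpenImmersion.lift_fac _ _ _
  haveI : IsOpenImmersion c := by
    haveI : IsOpenImmersion (c ≫ pullback.fst H.hom f) := by rw [hc]; infer_instance
    exact IsOpenImmersion.of_comp c (pullback.fst H.hom f)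
  obtain ⟨w, hw1, hw2⟩ := extend_affine S.functionField (Red.bc f H) hconnX hft hA t ht h1
    (isAffineOpen_opensRange c)
  let s : (W : Scheme.{u}) ⟶ (c.opensRange : Scheme.{u}) := (Scheme.Hom.isoOpensRange c).hom
  have hs : s ≫ c.opensRange.ι = c := Scheme.Hom.isoOpensRange_hom_ι c
  refine ⟨s ≫ w ≫ ei ≫ pullback.fst T.hom f, ?_, fun Z z b hzb => ?_⟩
  · simp only [Category.assoc, pullback.condition]
    rw [reassoc_of% hei, reassoc_of% hw1, reassoc_of% hs]
    rw [show (Red.bc f H).hom ≫ f = pullback.fst H.hom f ≫ H.hom from pullback.condition.symm, reassoc_of% hc]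
  · let z' : Z ⟶ pullback (Red.bc f H).hom gm :=
      pullback.lift (b ≫ c) (z ≫ pullback.snd H.hom g ≫ q') (by
        rw [← cancel_mono f]
        simp only [Category.assoc]
        rw [show (Red.bc f H).hom ≫ f = pullback.fst H.hom f ≫ H.hom from pullback.condition.symm, reassoc_of% hc,
          ← reassoc_of% hzb, pullback.condition, hgm, hq'g])
    have hz'1 : z' ≫ pullback.fst (Red.bc f H).hom gm = b ≫ c := pullback.lift_fst _ _ _
    have hz'2 : z' ≫ pullback.snd (Red.bc f H).hom gm = z ≫ pullback.snd H.hom g ≫ q' :=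
      pullback.lift_snd _ _ _
    have hz : z' ≫ zY = z := by
      apply pullback.hom_ext
      · simp only [Category.assoc]
        rw [hzY1, reassoc_of% hz'1, hc]
        exact hzb.symm
      · simp only [Category.assoc]
        rw [hzY2, reassoc_of% hz'2, hqq, Category.comp_id]
    have h2 := hw2 Z z' (b ≫ s) (by rw [hz'1, Category.assoc, hs])
    conv_lhs => rw [← hz]
    calc (z' ≫ zY) ≫ uη.left ≫ pullback.fst T.hom g = z' ≫ tT ≫ pullback.fst T.hom f := by
          simp only [tT, pullback.lift_fst, Category.assoc]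
      _ = (z' ≫ t) ≫ ei ≫ pullback.fst T.hom f := by
          simp only [t, Category.assoc]
          rw [reassoc_of% hehi]
      _ = b ≫ s ≫ w ≫ ei ≫ pullback.fst T.hom f := by rw [h2]; simp only [Category.assoc]

/-- The generic part of a smooth scheme over an irreducible base is dense. -/
theorem isDominant_fst {Q Z : Scheme.{u}} [IrreducibleSpace S] (r : Z ⟶ S) [Smooth r] (g : Q ⟶ S)
    (hg : genericPoint S ∈ Set.range g) : IsDominant (pullback.fst r g) := by
  refine ⟨?_⟩
  rw [DenseRange, Scheme.Pullback.range_fst]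
  refine Dense.preimage (Dense.mono (Set.singleton_subset_iff.mpr hg) ?_) r.isOpenMap
  rw [dense_iff_closure_eq]
  exact genericPoint_closure _

/-- Morphisms from a smooth scheme to a separated one are determined on the generic part. -/
theorem ext_generic [IsIntegral S] {Q : Scheme.{u}} (g : Q ⟶ S) (hg : genericPoint S ∈ Set.range g)
    {Z T : Over S} [Smooth Z.hom] [IsSeparated T.hom] (a b : Z ⟶ T)
    (h : (Over.pullback g).map a = (Over.pullback g).map b) : a = b := by
  haveI := isDominant_fst Z.hom g hg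
  haveI : IsReduced Z.left := AbSchLib.isReduced_of_smooth Z.hom
  apply Over.OverMorphism.ext
  refine ext_of_isDominant_of_isSeparated T.hom ((Over.w a).trans (Over.w b).symm) (pullback.fst Z.hom g) ?_
  have h' := congrArg (fun m => CommaMorphism.left m ≫ pullback.fst T.hom g) h
  erw [pullback.lift_fst, pullback.lift_fst] at h'
  exact h'

/-- A morphism which is a homomorphism on the generic part is a homomorphism. -/
theorem isMonHom_generic [IsIntegral S] {Q : Scheme.{u}} (g : Q ⟶ S) (hg : genericPoint S ∈ Set.range g)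
    {H T : Over S} [GrpObj H] [GrpObj T] [Smooth H.hom] [IsSeparated T.hom] (a : H ⟶ T)
    (h : IsMonHom ((Over.pullback g).map a)) : IsMonHom a := by
  refine SGA3cLib.BCPoints.isMonHom_of_mul a fun X x y => ?_
  haveI : Smooth (H ⊗ H).hom := by rw [Over.tensorObj_hom]; infer_instance
  have key : ((fst H H) * (snd H H)) ≫ a = (fst H H ≫ a) * (snd H H ≫ a) := by
    refine ext_generic g hg _ _ ?_
    haveI := h
    rw [Functor.map_comp, Functor.map_mul, Functor.map_mul, Functor.map_comp, Functor.map_comp, MonObj.mul_comp]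
  have h' := congrArg (lift x y ≫ ·) key
  simpa [MonObj.comp_mul, ← Category.assoc] using h'

/-- A homomorphism between the generic fibres extends. -/
theorem exists_extension [IsIntegral S] [IsLocallyNoetherian S]
    (hnorm : ∀ x : S, IsIntegrallyClosed (S.presheaf.stalk x))
    (H T : Over S) [GrpObj H] [GrpObj T] [Smooth H.hom]
    (hconn : ∀ s : S, ConnectedSpace ↥(pullback H.hom (S.fromSpecResidueField s)))
    (hT : SGA3x.IsMultTypeFT T)
    {Q : Scheme.{u}} (g : Q ⟶ S) (q : Spec (CommRingCat.of S.functionField) ⟶ Q)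
    (q' : Q ⟶ Spec (CommRingCat.of S.functionField)) (hqg : q ≫ g = S.fromSpecStalk (genericPoint S))
    (hq'g : q' ≫ S.fromSpecStalk (genericPoint S) = g) (hqq : q' ≫ q = 𝟙 Q)
    (uη : Red.bc g H ⟶ Red.bc g T) [IsMonHom uη] :
    ∃ a : H ⟶ T, IsMonHom a ∧ (Over.pullback g).map a = uη := by
  haveI := IsoTriv.SchemeBridge.isAffineHom_of_multTypeFT T hT
  have hg : genericPoint S ∈ Set.range g := by
    refine ⟨q (IsLocalRing.closedPoint _), ?_⟩
    rw [← Scheme.Hom.comp_apply, hqg]
    exact Scheme.fromSpecStalk_closedPoint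
  have hloc : ∀ x : H.left, ∃ W : H.left.Opens, x ∈ W ∧ ∃ w : (W : Scheme.{u}) ⟶ T.left, w ≫ T.hom = W.ι ≫ H.hom ∧
      ∀ (Z : Scheme.{u}) (z : Z ⟶ (Red.bc g H).left) (b : Z ⟶ (W : Scheme.{u})),
        z ≫ pullback.fst _ _ = b ≫ W.ι → z ≫ uη.left ≫ pullback.fst T.hom g = b ≫ w := by
    intro x
    obtain ⟨U, hU, hxU, -⟩ := exists_isAffineOpen_mem_and_subset (TopologicalSpace.Opens.mem_top (H.hom x))
    haveI : Nonempty U := ⟨⟨_, hxU⟩⟩
    obtain ⟨W, hW, hxW, hWU⟩ := exists_isAffineOpen_mem_and_subset (show x ∈ H.hom ⁻¹ᵁ U from hxU)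
    exact ⟨W, hxW, extend_local hnorm H T hconn hT g q q' hqg hq'g hqq uη hU hW hWU⟩
  choose W hxW w hw hwu using hloc
  let 𝒰 := H.left.openCoverOfIsOpenCover W (TopologicalSpace.IsOpenCover.mk
    (eq_top_iff.2 fun x _ => TopologicalSpace.Opens.mem_iSup.2 ⟨x, hxW x⟩))
  let a : H.left ⟶ T.left := Scheme.Cover.glueMorphisms 𝒰 w fun x y => by
    change pullback.fst (W x).ι (W y).ι ≫ w x = pullback.snd (W x).ι (W y).ι ≫ w y
    let r : pullback (W x).ι (W y).ι ⟶ H.left := pullback.fst _ _ ≫ (W x).ι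
    haveI : Smooth (r ≫ H.hom) := inferInstance
    haveI := isDominant_fst (r ≫ H.hom) g hg
    haveI : IsReduced (pullback (W x).ι (W y).ι) := AbSchLib.isReduced_of_smooth (r ≫ H.hom)
    refine ext_of_isDominant_of_isSeparated T.hom ?_ (pullback.fst (r ≫ H.hom) g) ?_
    · rw [Category.assoc, Category.assoc, hw, hw, pullback.condition_assoc]
    · let z : pullback (r ≫ H.hom) g ⟶ (Red.bc g H).left :=
        pullback.lift (pullback.fst _ _ ≫ r) (pullback.snd _ _) ((Category.assoc _ _ _).trans pullback.condition)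
      have hz : z ≫ pullback.fst H.hom g = pullback.fst _ _ ≫ r := pullback.lift_fst _ _ _
      have hx := hwu x _ z (pullback.fst (r ≫ H.hom) g ≫ pullback.fst (W x).ι (W y).ι) (hz.trans (Category.assoc _ _ _).symm)
      have hy := hwu y _ z (pullback.fst (r ≫ H.hom) g ≫ pullback.snd (W x).ι (W y).ι) ((hz.trans (congrArg (_ ≫ ·) pullback.condition)).trans (Category.assoc _ _ _).symm)
      exact ((Category.assoc _ _ _).symm.trans (hx.symm.trans hy)).trans (Category.assoc _ _ _)
  have ha : ∀ x, (W x).ι ≫ a = w x := fun x => Scheme.Cover.ι_glueMorphisms 𝒰 w _ x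
  let a' : H ⟶ T := Over.homMk a (Scheme.Cover.hom_ext 𝒰 _ _ fun x => by
    show (W x).ι ≫ a ≫ T.hom = (W x).ι ≫ H.hom
    rw [reassoc_of% ha x, hw x])
  have hmap : (Over.pullback g).map a' = uη := by
    apply Over.OverMorphism.ext
    apply pullback.hom_ext
    · erw [pullback.lift_fst]
      refine Scheme.Cover.hom_ext (𝒰.pullback₁ (pullback.fst H.hom g)) _ _ fun x => ?_
      show pullback.fst (pullback.fst H.hom g) (W x).ι ≫ pullback.fst H.hom g ≫ a = _
      rw [pullback.condition_assoc, ha x]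
      exact (hwu x _ _ _ pullback.condition).symm
    · exact (Over.w _).trans (Over.w uη).symm
  refine ⟨a', isMonHom_generic g hg a' ?_, hmap⟩
  rw [hmap]
  infer_instance

end Groth.Agent.MultExt26
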