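import Groth.Agent.S10957
import Groth.Agent.HenselLib.HullDVR
import Groth.Agent.IsoTriv.Henselian
import Groth.Agent.IsoTriv.SchemeBridge
import Groth.Agent.IsoTriv.SchemeLocal
import Mathlib.RingTheory.Ideal.AssociatedPrime.Finiteness

/-! Divisibility read at associated primes; splitting over strictly henselian discrete valuation rings. -/

set_option autoImplicit false
set_option linter.style.haveILetI false

universe u

open scoped TensorProduct

namespace Groth.Agent.MultExt26

variable {R : Type u} [CommRing R] [IsNoetherianRing R]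

/-- An element of a flat extension divisible by `r` after inverting, at every associated prime `p` of `R/r`,
something outside of `p`, is divisible by `r`. -/
theorem mem_span_of_associated {C : Type u} [CommRing C] [Algebra R C] [Module.Flat R C] (r : R) (c : C)
    (h : ∀ p ∈ associatedPrimes R (R ⧸ Ideal.span {r}), ∃ s ∉ p, algebraMap R C s * c ∈ Ideal.span {algebraMap R C r}) :
    c ∈ Ideal.span {algebraMap R C r} := by
  set M := R ⧸ Ideal.span {r}
  let J : Ideal R :=
    { carrier := {s | algebraMap R C s * c ∈ Ideal.span {algebraMap R C r}}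
      add_mem' := fun {a b} ha hb => by
        show algebraMap R C (a + b) * c ∈ Ideal.span {algebraMap R C r}
        rw [map_add, add_mul]; exact add_mem ha hb
      zero_mem' := by simp
      smul_mem' := fun a b hb => by
        show algebraMap R C (a * b) * c ∈ Ideal.span {algebraMap R C r}
        rw [map_mul, mul_assoc]; exact Ideal.mul_mem_left _ _ hb }
  obtain ⟨F, hF⟩ : ∃ F : Finset (Ideal R), ∀ p, p ∈ F ↔ p ∈ associatedPrimes R M :=
    ⟨(associatedPrimes.finite R M).toFinset, fun p => Set.Finite.mem_toFinset _⟩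
  have hns : ¬ ((J : Set R) ⊆ ⋃ p ∈ (F : Set (Ideal R)), (p : Set R)) := fun hsub => by
    obtain ⟨p, hp, hle⟩ := (Ideal.subset_union_prime ⊥ ⊥ fun p hp _ _ => ((hF p).mp hp).isPrime).mp hsub
    obtain ⟨s, hs, hsc⟩ := h p ((hF p).mp hp)
    exact hs (hle hsc)
  obtain ⟨s, hsJ, hsn⟩ := Set.not_subset.mp hns
  have hreg : IsSMulRegular M s := by
    intro a b hab
    by_contra hne
    obtain ⟨p, hp, hle⟩ := exists_le_isAssociatedPrime_of_isNoetherianRing R (a - b) (sub_ne_zero.mpr hne)
    have : s ∈ p := hle (by rw [Submodule.mem_colon_singleton, Submodule.mem_bot, smul_sub]; exact sub_eq_zero.mpr hab)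
    exact hsn (Set.mem_biUnion ((hF p).mpr hp) this)
  have hinj : Function.Injective ((LinearMap.lsmul R M s).lTensor C) :=
    Module.Flat.lTensor_preserves_injective_linearMap _ hreg
  let e : C ⊗[R] M ≃ₗ[R] C ⧸ (Ideal.span {r}).map (algebraMap R C) :=
    ((Algebra.TensorProduct.quotIdealMapEquivTensorQuot C (Ideal.span {r})).toLinearEquiv.restrictScalars R).symm
  have he : ∀ x : C, e (x ⊗ₜ[R] (1 : M)) = Ideal.Quotient.mk _ x := fun x => by
    show (Algebra.TensorProduct.quotIdealMapEquivTensorQuot C (Ideal.span {r})).symm (x ⊗ₜ Ideal.Quotient.mk _ (1 : R)) = _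
    rw [Algebra.TensorProduct.quotIdealMapEquivTensorQuot_symm_tmul, one_smul]
    rfl
  have hmap : (Ideal.span {r}).map (algebraMap R C) = Ideal.span {algebraMap R C r} := by
    rw [Ideal.map_span, Set.image_singleton]
  have h0 : (s • c) ⊗ₜ[R] (1 : M) = 0 := e.injective (by
    rw [he, map_zero, Ideal.Quotient.eq_zero_iff_mem, hmap, Algebra.smul_def]
    exact hsJ)
  have h1 : c ⊗ₜ[R] (1 : M) = 0 := hinj (by
    rw [map_zero, LinearMap.lTensor_tmul]
    show c ⊗ₜ[R] (s • (1 : M)) = 0
    rw [← TensorProduct.smul_tmul, h0])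
  have h2 := congrArg e h1
  rw [he, map_zero, Ideal.Quotient.eq_zero_iff_mem, hmap] at h2
  exact h2

/-- Over the strict henselisation at an associated prime of `R/r`, a discrete valuation ring, a group of
multiplicative type splits. -/
theorem exists_split_dvr [IsDomain R] [IsIntegrallyClosed R] {A : Type u} [CommRing A] [HopfAlgebra R A]
    (hft : Algebra.FiniteType R A) (hA : SGA3b.IsMultType R A) {r : R} (hr : r ≠ 0) {p : Ideal R} [p.IsPrime]
    (hp : p ∈ associatedPrimes R (R ⧸ Ideal.span {r})) :
    ∃ (V : Type u) (_ : CommRing V) (_ : IsDomain V) (_ : IsDiscreteValuationRing V) (_ : Algebra R V)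
      (_ : Algebra (Localization.AtPrime p) V) (_ : IsScalarTower R (Localization.AtPrime p) V),
      Module.FaithfullyFlat (Localization.AtPrime p) V ∧
      ∃ (N : Type u) (_ : CommGroup N), Nonempty (V ⊗[R] A ≃ₐc[V] MonoidAlgebra V N) := by
  let O := Localization.AtPrime p
  haveI : IsNoetherianRing O := IsLocalization.isNoetherianRing p.primeCompl O inferInstance
  haveI : IsDomain O := IsLocalization.isDomain_of_atPrime O p
  haveI : IsIntegrallyClosed O := isIntegrallyClosed_of_isLocalization O p.primeCompl p.primeCompl_le_nonZeroDivisors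
  have hinj : Function.Injective (algebraMap R O) :=
    IsLocalization.injective O p.primeCompl_le_nonZeroDivisors
  haveI hO : IsDiscreteValuationRing O := by
    refine Groth.Agent.S10957.result O (algebraMap R O r) (by simpa using hinj.ne hr) ?_
    obtain ⟨-, x, hx⟩ := Submodule.isAssociatedPrime_iff.mp hp
    obtain ⟨y, rfl⟩ := Ideal.Quotient.mk_surjective x
    have hmem : ∀ a : R, a ∈ p ↔ a * y ∈ Ideal.span {r} := fun a => by
      conv_lhs => rw [hx]
      rw [Submodule.mem_colon_singleton, Submodule.mem_bot, ← Ideal.Quotient.eq_zero_iff_mem]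
      rfl
    refine ⟨inferInstance, Ideal.Quotient.mk _ (algebraMap R O y), ?_⟩
    have hm : IsLocalRing.maximalIdeal O = (⊥ : Submodule O (O ⧸ Ideal.span {algebraMap R O r})).colon
        {Ideal.Quotient.mk (Ideal.span {algebraMap R O r}) (algebraMap R O y)} := by
      refine le_antisymm ?_ (IsLocalRing.le_maximalIdeal ?_)
      · rw [← Localization.AtPrime.map_eq_maximalIdeal, Ideal.map_le_iff_le_comap]
        intro a ha
        rw [Ideal.mem_comap, Submodule.mem_colon_singleton, Submodule.mem_bot]
        show Ideal.Quotient.mk _ (algebraMap R O a * algebraMap R O y) = 0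
        rw [Ideal.Quotient.eq_zero_iff_mem, ← map_mul]
        obtain ⟨t, ht⟩ := Ideal.mem_span_singleton.mp ((hmem a).mp ha)
        exact Ideal.mem_span_singleton.mpr ⟨algebraMap R O t, by rw [← map_mul, ← ht]⟩
      · intro htop
        have h1 : (1 : O) ∈ (⊥ : Submodule O (O ⧸ Ideal.span {algebraMap R O r})).colon
            {Ideal.Quotient.mk (Ideal.span {algebraMap R O r}) (algebraMap R O y)} := htop ▸ trivial
        rw [Submodule.mem_colon_singleton, Submodule.mem_bot, one_smul, Ideal.Quotient.eq_zero_iff_mem,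
          ← Set.image_singleton, ← Ideal.map_span, IsLocalization.algebraMap_mem_map_algebraMap_iff p.primeCompl] at h1
        obtain ⟨s, hs, hsy⟩ := h1
        exact hs ((hmem s).mpr hsy)
    rw [← hm, (IsLocalRing.maximalIdeal.isMaximal O).isPrime.radical]
  let V := HenselLib.LocalSH O
  haveI : IsNoetherianRing V := HenselLib.isNoetherianRing_localSH
  haveI : HenselianLocalRing V := HenselLib.henselianLocalRing_localSH
  obtain ⟨_, hVd⟩ := (HenselLib.exists_isDVR_iff_of_flat (R := O) (S := V) HenselLib.map_maximalIdeal_localSH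
    HenselLib.ringKrullDim_hull).mp ⟨inferInstance, hO⟩
  letI : Algebra R V := ((algebraMap O V).comp (algebraMap R O)).toAlgebra
  haveI : IsScalarTower R O V := .of_algebraMap_eq fun _ => rfl
  haveI : IsSepClosed (IsLocalRing.ResidueField V) := by
    haveI := HenselLib.isSepClosure_residueField_localSH (R := O)
    exact IsSepClosure.sep_closed (IsLocalRing.ResidueField O)
  obtain ⟨b⟩ := IsoTriv.SchemeSpec.nonempty_bc_spec (R := R) V A
  obtain ⟨hftV, hV⟩ := IsoTriv.SchemeLocal.isMultType_of_bc _
    (IsoTriv.SchemeBridge.multTypeFT_of_isMultType hft hA) _ b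
  have : Algebra.FiniteType V (V ⊗[R] A) := hftV
  obtain ⟨N₀, _, -, ⟨e₀⟩⟩ := IsoTriv.exists_iso_sepClosed
    (inferInstance : Algebra.FiniteType V (V ⊗[R] A)) (IsoTriv.isMultTypeConst_of_isLocalRing hV)
    (IsLocalRing.ResidueField V)
  obtain ⟨N, _, -, ⟨e⟩⟩ := IsoTriv.exists_iso_henselian hftV hV ⟨N₀, inferInstance, ⟨e₀⟩⟩
  exact ⟨V, inferInstance, inferInstance, hVd, inferInstance, inferInstance, inferInstance,
    HenselLib.faithfullyFlat_localSH, N, inferInstance, ⟨e⟩⟩

end Groth.Agent.MultExt26
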