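import Mathlib.AlgebraicGeometry.AffineScheme
import Mathlib.AlgebraicGeometry.ResidueField
import Mathlib.AlgebraicGeometry.Geometrically.Connected
import Groth.Agent.SGA3cLib.GeomConn
import Groth.Agent.SGA3cLib.Separated
import Groth.Agent.SGA3cLib.BCPoints

/-! Sections of opens attached to morphisms into affine schemes; connected fibres. -/

set_option autoImplicit false
set_option backward.isDefEq.respectTransparency.types false
set_option linter.style.haveILetI false

universe u

open CategoryTheory CategoryTheory.Limits MonoidalCategory CartesianMonoidalCategory MonObj AlgebraicGeometry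

namespace Groth.Agent.MultExt26

variable {Z : Scheme.{u}} {B B' : CommRingCat.{u}}

/-- The sections on `P` given by a morphism to an affine scheme. -/
noncomputable def sec (P : Z.Opens) (m : (P : Scheme.{u}) ⟶ Spec B) : B ⟶ Γ(Z, P) :=
  (Scheme.ΓSpecIso B).inv ≫ m.appTop ≫ P.topIso.hom

theorem sec_comp (P : Z.Opens) (m : (P : Scheme.{u}) ⟶ Spec B) (φ : B' ⟶ B) :
    sec P (m ≫ Spec.map φ) = φ ≫ sec P m := by
  simp only [sec, Scheme.Hom.comp_appTop, Category.assoc]
  rw [Scheme.ΓSpecIso_inv_naturality_assoc]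

theorem sec_injective (P : Z.Opens) : Function.Injective (sec (B := B) P) := fun m m' h => by
  refine ext_of_isAffine ?_
  rw [sec, sec, cancel_epi] at h
  exact (cancel_mono _).mp h

theorem sec_resLE {Y : Scheme.{u}} (g : Y ⟶ Z) (P : Z.Opens) (O : Y.Opens) (h : O ≤ g ⁻¹ᵁ P)
    (m : (P : Scheme.{u}) ⟶ Spec B) : sec O (g.resLE P O h ≫ m) = sec P m ≫ g.appLE P O h := by
  simp only [sec, Scheme.Hom.comp_appTop, Category.assoc]
  congr 2
  simp only [Scheme.Hom.appTop, Scheme.Hom.app_eq_appLE, Scheme.Opens.topIso, Functor.mapIso_hom]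
  rw [Scheme.Hom.resLE_appLE]
  erw [Scheme.Hom.appLE_map, Scheme.Hom.map_appLE]
  rfl

theorem sec_homOfLE {P Q : Z.Opens} (h : Q ≤ P) (m : (P : Scheme.{u}) ⟶ Spec B) :
    sec Q (Z.homOfLE h ≫ m) = sec P m ≫ Z.presheaf.map (homOfLE h).op := by
  simp only [sec, Scheme.Hom.comp_appTop, Category.assoc]
  congr 2
  simp only [Scheme.Opens.topIso, Scheme.homOfLE_appTop, Functor.mapIso_hom]
  erw [← Functor.map_comp, ← Functor.map_comp]
  rfl

theorem sec_ι {R : CommRingCat.{u}} (f : Z ⟶ Spec R) (P : Z.Opens) :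
    sec P (P.ι ≫ f) = (Scheme.ΓSpecIso R).inv ≫ f.appLE ⊤ P le_top := by
  simp only [sec, Scheme.Hom.comp_appTop, Category.assoc]
  congr 1
  rw [Scheme.Hom.appLE]
  simp [Scheme.Opens.topIso, Scheme.Hom.appTop]
  erw [← Functor.map_comp]
  rfl

/-- Fibres with connected space of a group are connected over every field. -/
theorem connectedSpace_fibre {S : Scheme.{u}} (X : Over S) [GrpObj X]
    (hconn : ∀ s : S, ConnectedSpace ↥(pullback X.hom (S.fromSpecResidueField s)))
    {L : Type u} [Field L] (c : Spec (CommRingCat.of L) ⟶ S) : ConnectedSpace ↥(pullback X.hom c) := by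
  obtain ⟨⟨s, q⟩, rfl⟩ := (Scheme.SpecToEquivOfField L S).symm.surjective c
  show ConnectedSpace ↥(pullback X.hom (Spec.map q ≫ S.fromSpecResidueField s))
  let F := Over.pullback (S.fromSpecResidueField s)
  letI : GrpObj (Red.bc (S.fromSpecResidueField s) X) := Functor.grpObjObj (G := X) (F := F)
  set Y := Red.bc (S.fromSpecResidueField s) X
  haveI : ConnectedSpace Y.left := hconn s
  have hx : (η[Y] : 𝟙_ _ ⟶ Y).left ≫ Y.hom = 𝟙 _ := Over.w η[Y]
  haveI : GeometricallyConnected Y.hom := by
    have := SGA3cLib.geometricallyConnected_of_rational_point (S.residueField s) Y.hom (𝟙 Y.left)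
      (η[Y] : 𝟙_ _ ⟶ Y).left hx (by simp)
    rwa [Category.id_comp] at this
  haveI : GeometricallyConnected (pullback.snd X.hom (S.fromSpecResidueField s)) := ‹GeometricallyConnected Y.hom›
  have : ConnectedSpace ↥(pullback (pullback.snd X.hom (S.fromSpecResidueField s)) (Spec.map q)) :=
    GeometricallyConnected.geometrically_connectedSpace _ _ _ (IsPullback.of_hasPullback _ _)
  exact (pullbackLeftPullbackSndIso X.hom (S.fromSpecResidueField s) (Spec.map q)).hom.homeomorph.connectedSpace_iff.mp this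

/-- The unit of a base change. -/
theorem eta_bc_fst {S S' : Scheme.{u}} (f : S' ⟶ S) (X : Over S) [GrpObj X] :
    letI : GrpObj (Red.bc f X) := Functor.grpObjObj (G := X) (F := Over.pullback f)
    (η[Red.bc f X] : 𝟙_ (Over S') ⟶ Red.bc f X).left ≫ pullback.fst X.hom f = f ≫ (η[X] : 𝟙_ (Over S) ⟶ X).left := by
  letI : GrpObj (Red.bc f X) := Functor.grpObjObj (G := X) (F := Over.pullback f)
  have h1 : SGA3cLib.BCPoints.pt f X (𝟙_ (Over S')) 1 = 1 :=
    map_one (MonoidHom.mk' (SGA3cLib.BCPoints.pt f X (𝟙_ (Over S'))) (SGA3cLib.BCPoints.pt_mul f))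
  have h2 : (η[Red.bc f X] : 𝟙_ (Over S') ⟶ Red.bc f X) = 1 := by
    rw [Hom.one_def, show toUnit (𝟙_ (Over S')) = 𝟙 _ from toUnit_unique _ _, Category.id_comp]
  rw [h2, ← h1]
  simp [SGA3cLib.BCPoints.pt, Adjunction.homEquiv_unit, Hom.one_def]
  erw [pullback.lift_fst, pullback.lift_fst_assoc]
  simp
  erw [pullback.lift_fst_assoc]
  simp

end Groth.Agent.MultExt26
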