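import Groth.Agent.MultExt26.Dvr
import Groth.Agent.MultExt26.Algebra
import Groth.Agent.MultExt26.Sections
import Mathlib.AlgebraicGeometry.Pullbacks

/-! Extension of generic homomorphisms into groups of multiplicative type over an affine normal base. -/

set_option autoImplicit false
set_option backward.isDefEq.respectTransparency.types false
set_option linter.style.haveILetI false
set_option linter.unusedSectionVars false

universe u

open CategoryTheory CategoryTheory.Limits MonoidalCategory CartesianMonoidalCategory MonObj AlgebraicGeometry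
open scoped TensorProduct

namespace Groth.Agent.MultExt26

variable {R : Type u} [CommRing R] [IsDomain R] [IsNoetherianRing R] [IsIntegrallyClosed R]
  (K : Type u) [Field K] [Algebra R K] [IsFractionRing R K]

/-- A fraction clears denominators in a tensor product. -/
theorem exists_smul_eq_tmul_one {C : Type u} [CommRing C] [Algebra R C] (z : C ⊗[R] K) :
    ∃ (r : R) (c : C), r ≠ 0 ∧ r • z = c ⊗ₜ[R] (1 : K) := by
  induction z using TensorProduct.induction_on with
  | zero => exact ⟨1, 0, one_ne_zero, by simp⟩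
  | tmul c k =>
    obtain ⟨⟨a, r⟩, hk⟩ := IsLocalization.surj (nonZeroDivisors R) k
    refine ⟨r, a • c, nonZeroDivisors.coe_ne_zero r, ?_⟩
    rw [TensorProduct.smul_tmul a, ← TensorProduct.tmul_smul, Algebra.smul_def, mul_comm, hk,
      ← Algebra.algebraMap_eq_smul_one]
  | add x y hx hy =>
    obtain ⟨r, c, hr, hx⟩ := hx
    obtain ⟨s, d, hs, hy⟩ := hy
    refine ⟨r * s, s • c + r • d, mul_ne_zero hr hs, ?_⟩
    rw [smul_add, TensorProduct.add_tmul, ← TensorProduct.smul_tmul', ← TensorProduct.smul_tmul', ← hx, ← hy,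
      ← mul_smul, ← mul_smul, mul_comm s r]

/-- Divisibility descends from a faithfully flat algebra over a localisation. -/
theorem exists_smul_of_descend (p : Ideal R) [p.IsPrime] {V : Type u} [CommRing V] [Algebra R V]
    [Algebra (Localization.AtPrime p) V] [IsScalarTower R (Localization.AtPrime p) V]
    [Module.FaithfullyFlat (Localization.AtPrime p) V] {C : Type u} [CommRing C] [Algebra R C] (c : C) (r : R)
    (y : C ⊗[R] V) (h : c ⊗ₜ[R] (1 : V) = algebraMap R (C ⊗[R] V) r * y) :
    ∃ s ∉ p, algebraMap R C s * c ∈ Ideal.span {algebraMap R C r} := by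
  let O := Localization.AtPrime p
  let I : Ideal C := Ideal.span {algebraMap R C r}
  let M := C ⧸ I
  let f : C ⊗[R] V →ₐ[R] M ⊗[R] V := Algebra.TensorProduct.map (Ideal.Quotient.mkₐ R I) (AlgHom.id R V)
  have h0 : (Ideal.Quotient.mk I c) ⊗ₜ[R] (1 : V) = 0 := by
    have h1 := congrArg f h
    rw [map_mul, AlgHom.commutes] at h1
    refine h1.trans ?_
    have : algebraMap R (M ⊗[R] V) r = 0 := by
      rw [Algebra.TensorProduct.algebraMap_apply, IsScalarTower.algebraMap_apply R C M, Ideal.Quotient.algebraMap_eq,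
        Ideal.Quotient.eq_zero_iff_mem.mpr (Ideal.mem_span_singleton_self _), TensorProduct.zero_tmul]
    rw [this, zero_mul]
  have h2 : (1 : O) ⊗ₜ[R] (Ideal.Quotient.mk I c) = (0 : O ⊗[R] M) := by
    refine (Module.FaithfullyFlat.one_tmul_eq_zero_iff O _ (A := V) _).mp ?_
    refine (TensorProduct.AlgebraTensorModule.cancelBaseChange R O O V M).injective ?_
    rw [map_zero, TensorProduct.AlgebraTensorModule.cancelBaseChange_tmul, one_smul]
    exact (TensorProduct.comm R V M).injective (by rw [map_zero, TensorProduct.comm_tmul]; exact h0)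
  haveI : IsLocalizedModule p.primeCompl (TensorProduct.mk R O M 1) :=
    (isLocalizedModule_iff_isBaseChange p.primeCompl O _).mpr (TensorProduct.isBaseChange R M O)
  obtain ⟨s, hs⟩ := (IsLocalizedModule.eq_zero_iff p.primeCompl (TensorProduct.mk R O M 1)).mp h2
  refine ⟨s, s.2, ?_⟩
  rw [← Ideal.Quotient.eq_zero_iff_mem, map_mul]
  rw [Submonoid.smul_def, Algebra.smul_def] at hs
  exact hs

variable (X : Over (Spec (CommRingCat.of R))) [GrpObj X]

/-- The generic point of the base. -/
noncomputable abbrev genMap : Spec (CommRingCat.of K) ⟶ Spec (CommRingCat.of R) :=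
  Spec.map (CommRingCat.ofHom (algebraMap R K))

/-- The rational identity of the generic fibre. -/
noncomputable abbrev genUnit : Spec (CommRingCat.of K) ⟶ pullback X.hom (genMap (R := R) K) :=
  pullback.lift (genMap (R := R) K ≫ (η[X] : 𝟙_ (Over (Spec (CommRingCat.of R))) ⟶ X).left) (𝟙 _) (by
    rw [Category.assoc, Over.w, Category.id_comp]
    exact Category.comp_id _)

variable {A : Type u} [CommRing A] [HopfAlgebra R A]

theorem res_res (Z : Scheme.{u}) {P Q T : Z.Opens} (h : Q ≤ P) (h' : T ≤ Q) (x : Γ(Z, P)) :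
    (Z.presheaf.map (homOfLE h').op).hom ((Z.presheaf.map (homOfLE h).op).hom x) =
      (Z.presheaf.map (homOfLE (h'.trans h)).op).hom x := by
  rw [← CommRingCat.comp_apply, ← Functor.map_comp]
  rfl

/-- The value of a generic morphism at an element, seen over a strictly henselian discrete valuation ring above the
base, comes from the affine open. -/
theorem exists_smul_mem [Smooth X.hom]
    (hconn : ∀ y : Spec (CommRingCat.of R),
      ConnectedSpace ↥(pullback X.hom ((Spec (CommRingCat.of R)).fromSpecResidueField y)))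
    (hft : Algebra.FiniteType R A) (hA : SGA3b.IsMultType R A)
    (t : pullback X.hom (genMap (R := R) K) ⟶ Spec (CommRingCat.of A))
    (ht : t ≫ Spec.map (CommRingCat.ofHom (algebraMap R A)) = pullback.fst _ _ ≫ X.hom)
    (h1 : genUnit K X ≫ t = genMap (R := R) K ≫ Spec.map (CommRingCat.ofHom (Bialgebra.counitAlgHom R A).toRingHom))
    {W : X.left.Opens} (hW : IsAffineOpen W) [Algebra R Γ(X.left, W)]
    (halg : CommRingCat.ofHom (algebraMap R Γ(X.left, W)) = (Scheme.ΓSpecIso (CommRingCat.of R)).inv ≫ X.hom.appLE ⊤ W le_top)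
    (tW : Spec (CommRingCat.of (Γ(X.left, W) ⊗[R] K)) ⟶ pullback X.hom (genMap (R := R) K))
    (htW : tW ≫ pullback.fst _ _ = Spec.map (CommRingCat.ofHom Algebra.TensorProduct.includeLeftRingHom) ≫ hW.fromSpec)
    (htW2 : tW ≫ pullback.snd _ _ = Spec.map (CommRingCat.ofHom (Algebra.TensorProduct.includeRight : K →ₐ[R] Γ(X.left, W) ⊗[R] K).toRingHom))
    (a : A) (r : R) (c : Γ(X.left, W)) (hr : r ≠ 0)
    (hrc : r • (Spec.preimage (tW ≫ t)).hom a = c ⊗ₜ[R] (1 : K))
    (p : Ideal R) (hp : p ∈ associatedPrimes R (R ⧸ Ideal.span {r})) :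
    ∃ s ∉ p, algebraMap R Γ(X.left, W) s * c ∈ Ideal.span {algebraMap R Γ(X.left, W) r} := by
  haveI := hp.isPrime
  obtain ⟨V, _, _, _, _, _, _, hff, N, _, ⟨e⟩⟩ := exists_split_dvr hft hA hr hp
  obtain ⟨π, hπ⟩ := IsDiscreteValuationRing.exists_irreducible V
  let σV : Spec (CommRingCat.of V) ⟶ Spec (CommRingCat.of R) := Spec.map (CommRingCat.ofHom (algebraMap R V))
  let F := Over.pullback σV
  letI : GrpObj (Red.bc σV X) := Functor.grpObjObj (G := X) (F := F)
  let XV := Red.bc σV X
  haveI : Smooth XV.hom := inferInstanceAs (Smooth (pullback.snd X.hom σV))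
  have hcV : ConnectedSpace ↥(pullback XV.hom (Spec.map (CommRingCat.ofHom (IsLocalRing.residue V)))) :=
    (pullbackLeftPullbackSndIso X.hom σV _).hom.homeomorph.connectedSpace_iff.mpr (connectedSpace_fibre X hconn _)
  let O : (Spec (CommRingCat.of V)).Opens := PrimeSpectrum.basicOpen π
  let D : XV.left.Opens := XV.hom ⁻¹ᵁ O
  -- the map of the generic points
  let VA := Localization.Away π
  have hVR : Function.Injective (algebraMap R V) := by
    rw [IsScalarTower.algebraMap_eq R (Localization.AtPrime p) V, RingHom.coe_comp]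
    haveI := hff
    exact (FaithfulSMul.algebraMap_injective (Localization.AtPrime p) V).comp
      (IsLocalization.injective _ p.primeCompl_le_nonZeroDivisors)
  have hu : ∀ y : nonZeroDivisors R, IsUnit (((algebraMap V VA).comp (algebraMap R V)) y) := fun y => by
    have hy : algebraMap R V y ≠ 0 := by simpa using hVR.ne (nonZeroDivisors.coe_ne_zero y)
    obtain ⟨n, v, hv⟩ := IsDiscreteValuationRing.eq_unit_mul_pow_irreducible hy hπ
    rw [RingHom.comp_apply, hv, map_mul, map_pow]
    exact (v.isUnit.map _).mul ((IsLocalization.Away.algebraMap_isUnit π).pow n)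
  let κ : K →+* VA := IsLocalization.lift hu
  let jA : Spec (CommRingCat.of VA) ⟶ Spec (CommRingCat.of V) := Spec.map (CommRingCat.ofHom (algebraMap V VA))
  haveI : IsOpenImmersion jA := IsOpenImmersion.of_isLocalization π
  have hjA : Set.range jA = (O : Set (Spec (CommRingCat.of V))) := PrimeSpectrum.localization_away_comap_range VA π
  let δ : (D : Scheme.{u}) ⟶ Spec (CommRingCat.of VA) := IsOpenImmersion.lift jA (D.ι ≫ XV.hom) (by
    rw [hjA]
    rintro _ ⟨x, rfl⟩
    exact x.2)
  have hδ : δ ≫ jA = D.ι ≫ XV.hom := IsOpenImmersion.lift_fac _ _ _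
  have hκ : Spec.map (CommRingCat.ofHom κ) ≫ genMap (R := R) K = jA ≫ σV := by
    rw [← Spec.map_comp, ← Spec.map_comp, ← CommRingCat.ofHom_comp, ← CommRingCat.ofHom_comp, IsLocalization.lift_comp]
  have hfst : (pullback.fst X.hom σV : XV.left ⟶ X.left) ≫ X.hom = XV.hom ≫ σV := pullback.condition
  let ρ : (D : Scheme.{u}) ⟶ pullback X.hom (genMap (R := R) K) :=
    pullback.lift (D.ι ≫ pullback.fst X.hom σV) (δ ≫ Spec.map (CommRingCat.ofHom κ)) (by
      rw [Category.assoc, hfst, Category.assoc, hκ, reassoc_of% hδ])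
  let τ : (D : Scheme.{u}) ⟶ Spec (CommRingCat.of A) := ρ ≫ t
  have hτ : τ ≫ Spec.map (CommRingCat.ofHom (algebraMap R A)) = (D.ι ≫ XV.hom) ≫ σV := by
    simp only [τ, ρ, Category.assoc, ht, pullback.lift_fst_assoc, hfst]
  -- ring maps into the sections on the generic part
  let gV : V →+* Γ(XV.left, D) := (sec D (D.ι ≫ XV.hom)).hom
  letI : Algebra V Γ(XV.left, D) := gV.toAlgebra
  letI : Algebra R Γ(XV.left, D) := (gV.comp (algebraMap R V)).toAlgebra
  haveI : IsScalarTower R V Γ(XV.left, D) := .of_algebraMap_eq fun _ => rfl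
  let gA : A →ₐ[R] Γ(XV.left, D) :=
    { (sec D τ).hom with
      commutes' := fun x => by
        have h := congr(($(congrArg (sec D) hτ)).hom x)
        rw [sec_comp, sec_comp] at h
        exact h }
  let Ψ : V ⊗[R] A →ₐ[V] Γ(XV.left, D) := Algebra.TensorProduct.lift (Algebra.ofId V _) gA (fun _ _ => mul_comm _ _)
  -- the value at the identity section
  let ee : Spec (CommRingCat.of V) ⟶ XV.left := (η[XV] : 𝟙_ (Over (Spec (CommRingCat.of V))) ⟶ XV).left
  have hee : ee ≫ XV.hom = 𝟙 _ := Over.w (η[XV] : 𝟙_ (Over (Spec (CommRingCat.of V))) ⟶ XV)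
  have hO : O ≤ ee ⁻¹ᵁ D := fun y hy => by
    show XV.hom (ee y) ∈ O
    rw [← Scheme.Hom.comp_apply, hee]
    exact hy
  have hρ : ∃ q : (O : Scheme.{u}) ⟶ Spec (CommRingCat.of K), q ≫ genMap (R := R) K = O.ι ≫ σV ∧
      ee.resLE D O hO ≫ ρ = q ≫ genUnit K X := by
    refine ⟨ee.resLE D O hO ≫ δ ≫ Spec.map (CommRingCat.ofHom κ), ?_, ?_⟩
    · rw [Category.assoc, Category.assoc, hκ, reassoc_of% hδ, Scheme.Hom.resLE_comp_ι_assoc, reassoc_of% hee]
    · apply pullback.hom_ext
      · simp only [ρ, genUnit, Category.assoc, pullback.lift_fst]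
        rw [Scheme.Hom.resLE_comp_ι_assoc, reassoc_of% hκ, reassoc_of% hδ, Scheme.Hom.resLE_comp_ι_assoc, reassoc_of% hee]
        congr 1
        exact eta_bc_fst σV X
      · simp only [ρ, genUnit, Category.assoc, pullback.lift_snd, Category.comp_id]
  obtain ⟨q, hq, hqρ⟩ := hρ
  let φe : Γ(XV.left, D) →+* Γ(Spec (CommRingCat.of V), O) := (ee.appLE D O hO).hom
  let gO : V →+* Γ(Spec (CommRingCat.of V), O) := (sec O O.ι).hom
  have hφV : ∀ v, φe (gV v) = gO v := fun v => by
    have h := congr(($(sec_resLE ee D O hO (D.ι ≫ XV.hom))).hom v)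
    rw [Scheme.Hom.resLE_comp_ι_assoc, hee, Category.comp_id] at h
    exact h.symm
  have hφA : ∀ x, φe (gA x) = gO (algebraMap R V (Bialgebra.counitAlgHom R A x)) := fun x => by
    have h := congr(($(sec_resLE ee D O hO τ)).hom x)
    have e' : ee.resLE D O hO ≫ τ = (O.ι ≫ σV) ≫ Spec.map (CommRingCat.ofHom (Bialgebra.counitAlgHom R A).toRingHom) := by
      rw [← hq, show τ = ρ ≫ t from rfl, reassoc_of% hqρ, h1, Category.assoc]
    rw [e', sec_comp, sec_comp] at h
    exact h.symm
  have hφ : ∀ z, φe (Ψ z) = gO (Bialgebra.counitAlgHom V (V ⊗[R] A) z) := fun z => by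
    induction z using TensorProduct.induction_on with
    | zero => simp
    | tmul v x =>
      rw [show Ψ (v ⊗ₜ x) = gV v * gA x from rfl, map_mul, hφV, hφA, ← map_mul]
      congr 1
      show _ = CoalgebraStruct.counit (R := V) (v ⊗ₜ[R] x)
      rw [TensorProduct.counit_tmul, Algebra.smul_def, mul_comm]
      rfl
    | add x y hx hy => simp only [map_add, hx, hy]
  -- the value at `a`
  let P : XV.left.Opens := (pullback.fst X.hom σV) ⁻¹ᵁ W
  haveI : IsAffineHom (pullback.fst X.hom σV) := MorphismProperty.pullback_fst _ _ (inferInstance : IsAffineHom σV)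
  have hP : IsAffineOpen P := hW.preimage _
  let Q : ∀ {A B : XV.left.Opens}, B ≤ A → Γ(XV.left, A) →+* Γ(XV.left, B) :=
    fun h => (XV.left.presheaf.map (homOfLE h).op).hom
  let pV : V →+* Γ(XV.left, P) := (sec P (P.ι ≫ XV.hom)).hom
  have hpV : ∀ v, Q (inf_le_left : P ⊓ D ≤ P) (pV v) = Q inf_le_right (gV v) := fun v => by
    have e₁ := congr(($(sec_homOfLE (inf_le_left : P ⊓ D ≤ P) (P.ι ≫ XV.hom))).hom v)
    have e₂ := congr(($(sec_homOfLE (inf_le_right : P ⊓ D ≤ D) (D.ι ≫ XV.hom))).hom v)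
    rw [Scheme.homOfLE_ι_assoc] at e₁ e₂
    exact e₁.symm.trans e₂
  have key : ∀ z : V ⊗[R] A, ∃ g : Γ(XV.left, P), Q (inf_le_left : P ⊓ D ≤ P) g = Q inf_le_right (Ψ z) := by
    intro z
    obtain ⟨z, rfl⟩ : ∃ y, e.symm y = z := ⟨e z, e.symm_apply_apply z⟩
    induction z using MonoidAlgebra.induction_on with
    | of n =>
      refine unit_extends XV hπ hcV D rfl _ ?_ O rfl hO ?_ P hP
      · exact ((((Group.isUnit n).map (MonoidAlgebra.of V N)).map e.symm.toAlgEquiv).map Ψ)
      · show φe (Ψ (e.symm (MonoidAlgebra.of V N n))) = 1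
        rw [hφ]
        show gO (CoalgebraStruct.counit (R := V) (e.symm (MonoidAlgebra.of V N n))) = 1
        rw [show CoalgebraStruct.counit (R := V) (e.symm (MonoidAlgebra.of V N n)) =
          CoalgebraStruct.counit (R := V) (MonoidAlgebra.of V N n) from CoalgHomClass.counit_comp_apply e.symm _]
        simp
    | add x y hx hy =>
      obtain ⟨g, hg⟩ := hx
      obtain ⟨g', hg'⟩ := hy
      exact ⟨g + g', by rw [map_add, map_add, map_add, map_add, hg, hg']⟩
    | smul v x hx =>
      obtain ⟨g, hg⟩ := hx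
      refine ⟨pV v * g, ?_⟩
      rw [map_smul e.symm, map_smul Ψ, Algebra.smul_def, map_mul, map_mul, hg, hpV]
      rfl
  obtain ⟨g, hg⟩ := key ((1 : V) ⊗ₜ[R] a)
  rw [show Ψ ((1 : V) ⊗ₜ[R] a) = gA a by simp [Ψ]] at hg
  -- clear the denominator
  let cV : Γ(X.left, W) →+* Γ(XV.left, P) := ((pullback.fst X.hom σV).appLE W P le_rfl).hom
  let P' : XV.left.Opens := P ⊓ D
  let ωl : (P' : Scheme.{u}) ⟶ Spec Γ(X.left, W) :=
    (pullback.fst X.hom σV).resLE W P' inf_le_left ≫ hW.isoSpec.hom
  let ωr : (P' : Scheme.{u}) ⟶ Spec (CommRingCat.of K) :=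
    XV.left.homOfLE (inf_le_right : P' ≤ D) ≫ δ ≫ Spec.map (CommRingCat.ofHom κ)
  have hsW : Spec.map (CommRingCat.ofHom (algebraMap R Γ(X.left, W))) = hW.fromSpec ≫ X.hom := by
    rw [halg, Spec.map_comp, ← IsAffineOpen.SpecMap_appLE_fromSpec X.hom (isAffineOpen_top _) hW le_top,
      IsAffineOpen.fromSpec_top, Scheme.isoSpec_Spec_inv]
  have hωcomp : ωl ≫ hW.fromSpec = XV.left.homOfLE (inf_le_left : P' ≤ P) ≫ P.ι ≫ pullback.fst X.hom σV := by
    simp only [ωl, Category.assoc, IsAffineOpen.isoSpec_hom_fromSpec, Scheme.Hom.resLE_comp_ι, Scheme.homOfLE_ι_assoc]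
    rfl
  have hω : ωl ≫ Spec.map (CommRingCat.ofHom (algebraMap R Γ(X.left, W))) = ωr ≫ genMap (R := R) K := by
    rw [hsW, reassoc_of% hωcomp, hfst]
    simp only [ωr, Category.assoc, hκ, reassoc_of% hδ, Scheme.homOfLE_ι_assoc]
    rfl
  let mm : (P' : Scheme.{u}) ⟶ Spec (CommRingCat.of (Γ(X.left, W) ⊗[R] K)) :=
    pullback.lift ωl ωr hω ≫ (pullbackSpecIso R Γ(X.left, W) K).hom
  have hμl : mm ≫ Spec.map (CommRingCat.ofHom Algebra.TensorProduct.includeLeftRingHom) = ωl := by
    rw [Category.assoc, pullbackSpecIso_hom_fst, pullback.lift_fst]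
  have hμr : mm ≫ Spec.map (CommRingCat.ofHom (Algebra.TensorProduct.includeRight : K →ₐ[R] Γ(X.left, W) ⊗[R] K).toRingHom) = ωr := by
    rw [Category.assoc]
    erw [pullbackSpecIso_hom_snd]
    rw [pullback.lift_snd]
  have hμ : mm ≫ tW = XV.left.homOfLE (inf_le_right : P' ≤ D) ≫ ρ := by
    apply pullback.hom_ext
    · rw [Category.assoc, htW, reassoc_of% hμl, hωcomp, Category.assoc, pullback.lift_fst, Scheme.homOfLE_ι_assoc,
        Scheme.homOfLE_ι_assoc]
    · rw [Category.assoc, htW2, hμr, Category.assoc, pullback.lift_snd]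
  have hsa : (sec P' mm).hom ((Spec.preimage (tW ≫ t)).hom a) = Q inf_le_right (gA a) := by
    have h := congr(($(sec_homOfLE (inf_le_right : P' ≤ D) τ)).hom a)
    rw [show XV.left.homOfLE (inf_le_right : P' ≤ D) ≫ τ = mm ≫ Spec.map (Spec.preimage (tW ≫ t)) by
      rw [Spec.map_preimage, reassoc_of% hμ], sec_comp] at h
    exact h
  have hsc : (sec P' mm).hom (c ⊗ₜ[R] (1 : K)) = Q inf_le_left (cV c) := by
    have h := congr(($(sec_comp P' mm (CommRingCat.ofHom Algebra.TensorProduct.includeLeftRingHom))).hom c)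
    rw [hμl] at h
    refine h.symm.trans ?_
    have h2 := congr(($(sec_resLE (pullback.fst X.hom σV) W P' inf_le_left hW.isoSpec.hom)).hom c)
    refine h2.trans ?_
    have h3 : (sec W hW.isoSpec.hom) = 𝟙 _ := by
      simp [sec, IsAffineOpen.isoSpec_hom, Scheme.Opens.toSpecΓ]
      exact (X.left.presheaf.map_comp _ _).symm.trans (X.left.presheaf.map_id _)
    rw [CommRingCat.comp_apply, h3]
    exact congr(($((pullback.fst X.hom σV).appLE_map le_rfl (homOfLE (inf_le_left : P' ≤ P)).op)).hom c).symm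
  have hsr : (sec P' mm).hom (algebraMap R (Γ(X.left, W) ⊗[R] K) r) = Q inf_le_right (gV (algebraMap R V r)) := by
    have h := congr(($(sec_comp P' mm (CommRingCat.ofHom (algebraMap R (Γ(X.left, W) ⊗[R] K))))).hom r)
    refine h.symm.trans ?_
    have h' := congr(($(sec_homOfLE (inf_le_right : P' ≤ D) ((D.ι ≫ XV.hom) ≫ σV))).hom r)
    rw [sec_comp] at h'
    refine Eq.trans ?_ h'
    congr 2
    congr 1
    rw [show (algebraMap R (Γ(X.left, W) ⊗[R] K)) = Algebra.TensorProduct.includeLeftRingHom.comp (algebraMap R Γ(X.left, W)) from rfl,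
      CommRingCat.ofHom_comp, Spec.map_comp, reassoc_of% hμl, hω]
    simp only [ωr, Category.assoc, hκ, reassoc_of% hδ]
  have hdiv : cV c = pV (algebraMap R V r) * g := by
    have hinj : Function.Injective (Q (inf_le_left : P ⊓ D ≤ P)) := by
      have k' : ∀ (B : XV.left.Opens) (hB : B ≤ P) (_ : XV.left.basicOpen (piOn XV π P) = B), Function.Injective (Q hB) := by
        intro B hB heq
        subst heq
        letI := hP.isLocalization_basicOpen (piOn XV π P)
        exact IsLocalization.injective _ (M := Submonoid.powers (piOn XV π P)) (by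
          rintro _ ⟨j, rfl⟩
          exact mem_nonZeroDivisors_iff_right.mpr fun b hb => ((isSMulRegular_piOn XV hπ.ne_zero hP).pow j)
            (show piOn XV π P ^ j * b = piOn XV π P ^ j * 0 by rw [mul_zero, mul_comm, hb]))
      exact k' _ inf_le_left (basicOpen_piOn XV π P)
    refine hinj ?_
    rw [map_mul, hpV, hg, ← hsc, ← hrc, Algebra.smul_def, map_mul, hsr, hsa]
  -- descend to the localisation at `p`
  letI : Algebra V Γ(XV.left, P) := pV.toAlgebra
  have hpush : IsPushout (CommRingCat.ofHom (algebraMap R Γ(X.left, W))) (CommRingCat.ofHom (algebraMap R V))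
      (CommRingCat.ofHom cV) (CommRingCat.ofHom pV) := by
    have hle : P = (pullback.fst X.hom σV) ⁻¹ᵁ W ⊓ (pullback.snd X.hom σV) ⁻¹ᵁ ⊤ := by simp [P]
    have h := (isIso_pushoutSection_iff (IsPullback.of_hasPullback X.hom σV) (US := ⊤) (UT := ⊤) (UX := W) le_top le_top hle).mp
      (isIso_pushoutSection_of_isAffineOpen _ _ _ hle (isAffineOpen_top _) (isAffineOpen_top _) hW)
    refine h.of_iso (Scheme.ΓSpecIso (CommRingCat.of R)) (Iso.refl _) (Scheme.ΓSpecIso (CommRingCat.of V)) (Iso.refl _) ?_ ?_ ?_ ?_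
    · rw [halg]; simp
    · simp [σV, Scheme.Hom.appLE]
    · simp [cV]
    · rw [← cancel_epi (Scheme.ΓSpecIso (CommRingCat.of V)).inv]
      simp [pV, sec_ι, P]
      rfl
  let iso := hpush.isoPushout ≪≫ (CommRingCat.isPushout_tensorProduct R Γ(X.left, W) V).isoPushout.symm
  have hiso_l : iso.hom.hom (cV c) = c ⊗ₜ[R] (1 : V) := by
    have : CommRingCat.ofHom cV ≫ iso.hom = CommRingCat.ofHom Algebra.TensorProduct.includeLeftRingHom := by simp [iso]
    exact congr(($this).hom c)
  have hiso_r : iso.hom.hom (pV (algebraMap R V r)) = algebraMap R (Γ(X.left, W) ⊗[R] V) r := by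
    have : CommRingCat.ofHom pV ≫ iso.hom = CommRingCat.ofHom (Algebra.TensorProduct.includeRight : V →ₐ[R] Γ(X.left, W) ⊗[R] V).toRingHom := by simp [iso]
    exact congr(($this).hom (algebraMap R V r)).trans ((Algebra.TensorProduct.includeRight : V →ₐ[R] Γ(X.left, W) ⊗[R] V).commutes r)
  have hd : c ⊗ₜ[R] (1 : V) = algebraMap R (Γ(X.left, W) ⊗[R] V) r * iso.hom.hom g := by
    rw [← hiso_l, ← hiso_r, ← map_mul, hdiv]
  exact exists_smul_of_descend p c r _ hd

end Groth.Agent.MultExt26

namespace Groth.Agent.MultExt26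

variable {R : Type u} [CommRing R] [IsDomain R] [IsNoetherianRing R] [IsIntegrallyClosed R]
  (K : Type u) [Field K] [Algebra R K] [IsFractionRing R K]
  (X : Over (Spec (CommRingCat.of R))) [GrpObj X] {A : Type u} [CommRing A] [HopfAlgebra R A]

/-- Morphisms into the spectrum of a tensor product. -/
theorem exists_lift_spec {R B C : Type u} [CommRing R] [CommRing B] [CommRing C] [Algebra R B] [Algebra R C] {Z : Scheme.{u}}
    (v : Z ⟶ Spec (CommRingCat.of B)) (w : Z ⟶ Spec (CommRingCat.of C))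
    (h : v ≫ Spec.map (CommRingCat.ofHom (algebraMap R B)) = w ≫ Spec.map (CommRingCat.ofHom (algebraMap R C))) :
    ∃ m : Z ⟶ Spec (CommRingCat.of (B ⊗[R] C)),
      m ≫ Spec.map (CommRingCat.ofHom Algebra.TensorProduct.includeLeftRingHom) = v ∧
      m ≫ Spec.map (CommRingCat.ofHom (Algebra.TensorProduct.includeRight : C →ₐ[R] B ⊗[R] C).toRingHom) = w := by
  refine ⟨pullback.lift v w h ≫ (pullbackSpecIso R B C).hom, ?_, ?_⟩
  · rw [Category.assoc, pullbackSpecIso_hom_fst, pullback.lift_fst]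
  · rw [Category.assoc]
    erw [pullbackSpecIso_hom_snd]
    rw [pullback.lift_snd]

set_option maxHeartbeats 1000000 in
/-- A pointed morphism from the generic fibre into a group of multiplicative type extends to every affine open. -/
theorem extend_affine [Smooth X.hom]
    (hconn : ∀ y : Spec (CommRingCat.of R),
      ConnectedSpace ↥(pullback X.hom ((Spec (CommRingCat.of R)).fromSpecResidueField y)))
    (hft : Algebra.FiniteType R A) (hA : SGA3b.IsMultType R A)
    (t : pullback X.hom (genMap (R := R) K) ⟶ Spec (CommRingCat.of A))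
    (ht : t ≫ Spec.map (CommRingCat.ofHom (algebraMap R A)) = pullback.fst _ _ ≫ X.hom)
    (h1 : genUnit K X ≫ t = genMap (R := R) K ≫ Spec.map (CommRingCat.ofHom (Bialgebra.counitAlgHom R A).toRingHom))
    {W : X.left.Opens} (hW : IsAffineOpen W) :
    ∃ w : (W : Scheme.{u}) ⟶ Spec (CommRingCat.of A), w ≫ Spec.map (CommRingCat.ofHom (algebraMap R A)) = W.ι ≫ X.hom ∧
      ∀ (Z : Scheme.{u}) (z : Z ⟶ pullback X.hom (genMap (R := R) K)) (b : Z ⟶ (W : Scheme.{u})),
        z ≫ pullback.fst _ _ = b ≫ W.ι → z ≫ t = b ≫ w := by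
  letI : Algebra R Γ(X.left, W) := ((Scheme.ΓSpecIso (CommRingCat.of R)).inv ≫ X.hom.appLE ⊤ W le_top).hom.toAlgebra
  have halg : CommRingCat.ofHom (algebraMap R Γ(X.left, W)) = (Scheme.ΓSpecIso (CommRingCat.of R)).inv ≫ X.hom.appLE ⊤ W le_top := rfl
  haveI : Module.Flat R Γ(X.left, W) := RingHom.Flat.comp (RingHom.Flat.of_bijective
    (ConcreteCategory.bijective_of_isIso (Scheme.ΓSpecIso (CommRingCat.of R)).inv)) (Flat.flat_appLE X.hom (isAffineOpen_top _) hW le_top)
  have hsW : Spec.map (CommRingCat.ofHom (algebraMap R Γ(X.left, W))) = hW.fromSpec ≫ X.hom := by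
    rw [halg, Spec.map_comp, ← IsAffineOpen.SpecMap_appLE_fromSpec X.hom (isAffineOpen_top _) hW le_top,
      IsAffineOpen.fromSpec_top, Scheme.isoSpec_Spec_inv]
  let iL := CommRingCat.ofHom (Algebra.TensorProduct.includeLeftRingHom (R := R) (A := Γ(X.left, W)) (B := K))
  let iR := CommRingCat.ofHom ((Algebra.TensorProduct.includeRight : K →ₐ[R] Γ(X.left, W) ⊗[R] K).toRingHom)
  have hiR : CommRingCat.ofHom (algebraMap R K) ≫ iR = CommRingCat.ofHom (algebraMap R (Γ(X.left, W) ⊗[R] K)) := by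
    ext x
    exact (Algebra.TensorProduct.includeRight : K →ₐ[R] Γ(X.left, W) ⊗[R] K).commutes x
  have hiL : CommRingCat.ofHom (algebraMap R Γ(X.left, W)) ≫ iL = CommRingCat.ofHom (algebraMap R (Γ(X.left, W) ⊗[R] K)) := rfl
  let tW : Spec (CommRingCat.of (Γ(X.left, W) ⊗[R] K)) ⟶ pullback X.hom (genMap (R := R) K) :=
    pullback.lift (Spec.map iL ≫ hW.fromSpec) (Spec.map iR) (by
      rw [Category.assoc, ← hsW, ← Spec.map_comp, ← Spec.map_comp, hiL, hiR])
  set φ := Spec.preimage (tW ≫ t) with hφ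
  have hφR : CommRingCat.ofHom (algebraMap R A) ≫ φ = CommRingCat.ofHom (algebraMap R (Γ(X.left, W) ⊗[R] K)) := by
    apply Spec.map_injective
    rw [Spec.map_comp, hφ, Spec.map_preimage, Category.assoc, ht, pullback.lift_fst_assoc, Category.assoc, ← hsW,
      ← Spec.map_comp, hiL]
  have hrange : ∀ a : A, ∃ c : Γ(X.left, W), φ.hom a = c ⊗ₜ[R] (1 : K) := by
    intro a
    obtain ⟨r, c, hr, hrc⟩ := exists_smul_eq_tmul_one K (φ.hom a)
    have hc := mem_span_of_associated (R := R) r c fun p hp =>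
      exists_smul_mem K X hconn hft hA t ht h1 hW halg tW (pullback.lift_fst _ _ _) (pullback.lift_snd _ _ _) a r c hr hrc p hp
    obtain ⟨d, rfl⟩ := Ideal.mem_span_singleton.mp hc
    refine ⟨d, ?_⟩
    have hunit : IsUnit (algebraMap R (Γ(X.left, W) ⊗[R] K) r) := by
      have e : algebraMap R (Γ(X.left, W) ⊗[R] K) r = iR.hom (algebraMap R K r) := (congr(($hiR).hom r)).symm
      rw [e]
      exact ((IsUnit.mk0 _ (by simpa using (IsFractionRing.injective R K).ne hr)).map iR.hom)
    refine hunit.mul_left_cancel ?_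
    rw [← Algebra.smul_def, hrc, ← Algebra.smul_def, ← TensorProduct.smul_tmul', Algebra.smul_def]
  have hinj : Function.Injective iL.hom :=
    Algebra.TensorProduct.includeLeft_injective (S := R) (A := Γ(X.left, W)) (IsFractionRing.injective R K)
  choose ψ₀ hψ₀ using hrange
  have hψ₀' : ∀ a, iL.hom (ψ₀ a) = φ.hom a := fun a => (hψ₀ a).symm
  let ψ : A →+* Γ(X.left, W) :=
    { toFun := ψ₀
      map_one' := hinj (by rw [hψ₀', map_one, map_one])
      map_mul' := fun x y => hinj (by rw [hψ₀', map_mul, map_mul, hψ₀', hψ₀'])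
      map_zero' := hinj (by rw [hψ₀', map_zero, map_zero])
      map_add' := fun x y => hinj (by rw [hψ₀', map_add, map_add, hψ₀', hψ₀']) }
  have hψ : CommRingCat.ofHom ψ ≫ iL = φ := by
    ext a
    exact hψ₀' a
  refine ⟨hW.isoSpec.hom ≫ Spec.map (CommRingCat.ofHom ψ), ?_, fun Z z b hzb => ?_⟩
  · rw [Category.assoc, ← Spec.map_comp, show CommRingCat.ofHom (algebraMap R A) ≫ CommRingCat.ofHom ψ =
      CommRingCat.ofHom (algebraMap R Γ(X.left, W)) by
        ext x
        refine hinj ((hψ₀' _).trans ?_)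
        exact congr(($hφR).hom x), hsW, ← Category.assoc, IsAffineOpen.isoSpec_hom_fromSpec]
  · obtain ⟨m, hml, hmr⟩ := exists_lift_spec (R := R) (B := Γ(X.left, W)) (C := K)
      (b ≫ hW.isoSpec.hom) (z ≫ pullback.snd X.hom (genMap (R := R) K)) (by
        rw [hsW, Category.assoc, IsAffineOpen.isoSpec_hom_fromSpec_assoc, ← reassoc_of% hzb, pullback.condition,
          Category.assoc])
    have htW1 : tW ≫ pullback.fst X.hom (genMap (R := R) K) = Spec.map iL ≫ hW.fromSpec := pullback.lift_fst _ _ _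
    have htW2 : tW ≫ pullback.snd X.hom (genMap (R := R) K) = Spec.map iR := pullback.lift_snd _ _ _
    have hmz : m ≫ tW = z := by
      apply pullback.hom_ext
      · refine (Category.assoc _ _ _).trans (((congrArg (m ≫ ·) htW1).trans ?_).trans hzb.symm)
        rw [← Category.assoc, hml, Category.assoc, IsAffineOpen.isoSpec_hom_fromSpec]
      · exact (Category.assoc _ _ _).trans ((congrArg (m ≫ ·) htW2).trans hmr)
    have ht' : tW ≫ t = Spec.map (CommRingCat.ofHom ψ ≫ iL) := by
      rw [hψ, hφ, Spec.map_preimage]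
    rw [← hmz, Category.assoc, ht', Spec.map_comp, ← Category.assoc, hml, Category.assoc]

end Groth.Agent.MultExt26
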