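import Groth.Agent.MultExt26.UnitForm
import Groth.Agent.SGA3cLib.Irreducible
import Groth.Agent.CAlgH.RegularSmooth
import Groth.Prelude.Def_Red
import Mathlib.RingTheory.DiscreteValuationRing.Basic

/-! Units on the generic fibre of a smooth group with connected closed fibre which are one at the identity. -/

set_option autoImplicit false
set_option backward.isDefEq.respectTransparency.types false
set_option linter.style.haveILetI false
set_option linter.unusedSectionVars false

universe u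

open CategoryTheory CategoryTheory.Limits MonoidalCategory CartesianMonoidalCategory MonObj AlgebraicGeometry
open scoped TensorProduct

namespace Groth.Agent.MultExt26

variable {V : Type u} [CommRing V] [IsDomain V] [IsDiscreteValuationRing V] {π : V}
  (X : Over (Spec (CommRingCat.of V))) [GrpObj X]

/-- The function `π` on an open. -/
noncomputable def piOn (π : V) (W : X.left.Opens) : Γ(X.left, W) :=
  (X.hom.appLE ⊤ W le_top).hom ((Scheme.ΓSpecIso (CommRingCat.of V)).inv.hom π)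

theorem piOn_res (π : V) {W W' : X.left.Opens} (h : W' ≤ W) :
    (X.left.presheaf.map (homOfLE h).op).hom (piOn X π W) = piOn X π W' := by
  show (X.hom.appLE ⊤ W le_top ≫ X.left.presheaf.map (homOfLE h).op).hom _ = _
  rw [Scheme.Hom.appLE_map]
  rfl

theorem basicOpen_piOn (π : V) (W : X.left.Opens) :
    X.left.basicOpen (piOn X π W) = W ⊓ X.hom ⁻¹ᵁ (PrimeSpectrum.basicOpen π) := by
  rw [piOn, Scheme.basicOpen_appLE, basicOpen_eq_of_affine']
  simp

theorem isSMulRegular_piOn [Flat X.hom] (hπ : π ≠ 0) {W : X.left.Opens} (hW : IsAffineOpen W) :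
    IsSMulRegular Γ(X.left, W) (piOn X π W) := by
  algebraize [((X.hom.appLE ⊤ W le_top).hom).comp (Scheme.ΓSpecIso (CommRingCat.of V)).inv.hom]
  have hf : ((X.hom.appLE ⊤ W le_top).hom).Flat :=
    Flat.flat_appLE X.hom (isAffineOpen_top _) hW le_top
  have : Module.Flat V Γ(X.left, W) :=
    RingHom.Flat.comp (RingHom.Flat.of_bijective (ConcreteCategory.bijective_of_isIso (Scheme.ΓSpecIso (CommRingCat.of V)).inv)) hf
  intro a b h
  exact (IsSMulRegular.of_flat (S := Γ(X.left, W)) ((IsRegular.of_ne_zero hπ).left.isSMulRegular)) h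

/-- The closed fibre as a set. -/
def specialFibre : Set X.left := X.hom ⁻¹' {IsLocalRing.closedPoint V}

theorem mem_basicOpen_iff (hπ : Irreducible π) (y : Spec (CommRingCat.of V)) :
    y ∈ (PrimeSpectrum.basicOpen π : TopologicalSpace.Opens (PrimeSpectrum V)) ↔ y ≠ IsLocalRing.closedPoint V := by
  have hm : IsLocalRing.maximalIdeal V = Ideal.span {π} := hπ.maximalIdeal_eq
  show π ∉ y.asIdeal ↔ ¬ y = _
  refine ⟨fun h e => h (by rw [e]; show π ∈ IsLocalRing.maximalIdeal V; rw [hm]; exact Ideal.mem_span_singleton_self π), fun h hmem => h ?_⟩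
  refine PrimeSpectrum.ext (le_antisymm (IsLocalRing.le_maximalIdeal y.2.ne_top) ?_)
  show IsLocalRing.maximalIdeal V ≤ y.asIdeal
  rw [hm, Ideal.span_le, Set.singleton_subset_iff]
  exact hmem

theorem zeroLocus_piOn (hπ : Irreducible π) {W : X.left.Opens} (hW : IsAffineOpen W) :
    hW.fromSpec ⁻¹' (specialFibre X) = PrimeSpectrum.zeroLocus ({piOn X π W} : Set Γ(X.left, W)) := by
  ext q
  have hb := hW.fromSpec_preimage_basicOpen (piOn X π W)
  have h1 : q ∈ hW.fromSpec ⁻¹ᵁ X.left.basicOpen (piOn X π W) ↔ q ∈ PrimeSpectrum.basicOpen (piOn X π W) := by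
    rw [hb]; exact Iff.rfl
  have hq : hW.fromSpec q ∈ W := hW.range_fromSpec.le ⟨q, rfl⟩
  have h2 : hW.fromSpec q ∈ X.left.basicOpen (piOn X π W) ↔ X.hom (hW.fromSpec q) ≠ IsLocalRing.closedPoint V := by
    rw [basicOpen_piOn, ← mem_basicOpen_iff hπ]
    exact ⟨fun h => h.2, fun h => ⟨hq, h⟩⟩
  show X.hom (hW.fromSpec q) = IsLocalRing.closedPoint V ↔ ({piOn X π W} : Set Γ(X.left, W)) ⊆ q.asIdeal
  rw [Set.singleton_subset_iff, SetLike.mem_coe]
  rw [← not_ne_iff, ← h2]
  exact (not_congr h1).trans (not_not (a := piOn X π W ∈ q.asIdeal))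

theorem isReduced_quotient [Smooth X.hom] (hπ : Irreducible π) {W : X.left.Opens} (hW : IsAffineOpen W) :
    (Ideal.span {piOn X π W}).IsRadical := by
  algebraize [((X.hom.appLE ⊤ W le_top).hom).comp (Scheme.ΓSpecIso (CommRingCat.of V)).inv.hom]
  have hf : ((X.hom.appLE ⊤ W le_top).hom).Smooth :=
    Smooth.smooth_appLE X.hom (isAffineOpen_top _) hW le_top
  have : Algebra.Smooth V Γ(X.left, W) := by
    rw [← RingHom.smooth_algebraMap]
    exact RingHom.Smooth.stableUnderComposition _ _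
      (RingHom.Smooth.of_bijective (ConcreteCategory.bijective_of_isIso (Scheme.ΓSpecIso (CommRingCat.of V)).inv)) hf
  let : Field (V ⧸ IsLocalRing.maximalIdeal V) := Ideal.Quotient.field _
  have : _root_.IsReduced ((V ⧸ IsLocalRing.maximalIdeal V) ⊗[V] Γ(X.left, W)) :=
    CAlgH.isReduced_of_smooth (V ⧸ IsLocalRing.maximalIdeal V) _
  have e := (Algebra.TensorProduct.quotIdealMapEquivTensorQuot Γ(X.left, W) (IsLocalRing.maximalIdeal V)).toRingEquiv.trans
    (Algebra.TensorProduct.comm V Γ(X.left, W) (V ⧸ IsLocalRing.maximalIdeal V)).toRingEquiv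
  have : _root_.IsReduced (Γ(X.left, W) ⧸ (IsLocalRing.maximalIdeal V).map (algebraMap V Γ(X.left, W))) :=
    isReduced_of_injective e e.injective
  rw [hπ.maximalIdeal_eq, Ideal.map_span, Set.image_singleton] at this
  exact (Ideal.isRadical_iff_quotient_reduced _).mpr this

/-- The closed fibre of a group with connected closed fibre is irreducible. -/
theorem isIrreducible_specialFibre [Smooth X.hom]
    (hconn : ConnectedSpace ↥(pullback X.hom (Spec.map (CommRingCat.ofHom (IsLocalRing.residue V))))) :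
    IsIrreducible (specialFibre X) := by
  let s := Spec.map (CommRingCat.ofHom (IsLocalRing.residue V))
  let F := Over.pullback s
  letI : GrpObj (Red.bc s X) := Functor.grpObjObj (G := X) (F := F)
  haveI : LocallyOfFiniteType (Red.bc s X).hom := inferInstanceAs (LocallyOfFiniteType (pullback.snd X.hom s))
  haveI : ConnectedSpace (Red.bc s X).left := hconn
  haveI : IrreducibleSpace (Red.bc s X).left := SGA3cLib.irreducibleSpace_of_connected _
  have hr : Set.range (pullback.fst X.hom s) = specialFibre X := by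
    rw [Scheme.Pullback.range_fst]
    show X.hom ⁻¹' _ = X.hom ⁻¹' _
    congr 1
    ext y
    constructor
    · rintro ⟨z, rfl⟩
      rw [Subsingleton.elim (α := PrimeSpectrum (IsLocalRing.ResidueField V)) z (IsLocalRing.closedPoint _)]
      exact IsLocalRing.comap_closedPoint (IsLocalRing.residue V)
    · rintro rfl
      exact ⟨IsLocalRing.closedPoint (IsLocalRing.ResidueField V), IsLocalRing.comap_closedPoint (IsLocalRing.residue V)⟩
  rw [← hr, ← Set.image_univ]
  exact (IrreducibleSpace.isIrreducible_univ (Red.bc s X).left).image _ (pullback.fst X.hom s).continuous.continuousOn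

theorem isPrime_piOn [Smooth X.hom] (hπ : Irreducible π)
    (hconn : ConnectedSpace ↥(pullback X.hom (Spec.map (CommRingCat.ofHom (IsLocalRing.residue V)))))
    {W : X.left.Opens} (hW : IsAffineOpen W) (hne : ((W : Set X.left) ∩ specialFibre X).Nonempty) :
    (Ideal.span {piOn X π W}).IsPrime := by
  rw [← (isReduced_quotient X hπ hW).radical, ← PrimeSpectrum.isIrreducible_zeroLocus_iff,
    PrimeSpectrum.zeroLocus_span, ← zeroLocus_piOn X hπ hW]
  refine (isIrreducible_specialFibre X hconn).preimage hW.fromSpec.isOpenEmbedding ?_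
  obtain ⟨x, hxW, hxS⟩ := hne
  obtain ⟨q, rfl⟩ := hW.range_fromSpec.ge hxW
  exact ⟨_, hxS, ⟨q, rfl⟩⟩

/-- A unit on the generic fibre which is one along the identity section extends. -/
theorem unit_extends [Smooth X.hom] (hπ : Irreducible π)
    (hconn : ConnectedSpace ↥(pullback X.hom (Spec.map (CommRingCat.ofHom (IsLocalRing.residue V)))))
    (D : X.left.Opens) (hD : D = X.hom ⁻¹ᵁ (PrimeSpectrum.basicOpen π))
    (f : Γ(X.left, D)) (hf : IsUnit f) (O : (Spec (CommRingCat.of V)).Opens) (hO : O = PrimeSpectrum.basicOpen π)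
    (he : O ≤ (η[X] : 𝟙_ (Over (Spec (CommRingCat.of V))) ⟶ X).left ⁻¹ᵁ D)
    (hf1 : ((η[X] : 𝟙_ (Over (Spec (CommRingCat.of V))) ⟶ X).left.appLE D O he).hom f = 1)
    (W : X.left.Opens) (hW : IsAffineOpen W) :
    ∃ g : Γ(X.left, W), (X.left.presheaf.map (homOfLE (inf_le_left : W ⊓ D ≤ W)).op).hom g =
      (X.left.presheaf.map (homOfLE (inf_le_right : W ⊓ D ≤ D)).op).hom f := by
  subst hO
  have hbD : ∀ A : X.left.Opens, X.left.basicOpen (piOn X π A) = A ⊓ D := fun A => by rw [hD, basicOpen_piOn]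
  let Q : ∀ {A B : X.left.Opens}, B ≤ A → Γ(X.left, A) →+* Γ(X.left, B) :=
    fun h => (X.left.presheaf.map (homOfLE h).op).hom
  have hQ : ∀ {A B C : X.left.Opens} (h : B ≤ A) (h' : C ≤ B) x, Q h' (Q h x) = Q (h'.trans h) x := fun h h' x => by
    show (X.left.presheaf.map _ ≫ X.left.presheaf.map _).hom x = _
    rw [← Functor.map_comp]
    rfl
  by_cases hne : ((W : Set X.left) ∩ specialFibre X).Nonempty
  swap
  · have hWD : W ≤ D := fun x hx => by
      rw [hD]
      exact (mem_basicOpen_iff hπ _).mpr fun e => hne ⟨x, hx, e⟩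
    exact ⟨Q hWD f, hQ hWD inf_le_left f⟩
  have hcls : ∀ {A : X.left.Opens}, IsAffineOpen A → ((A : Set X.left) ∩ specialFibre X).Nonempty →
      ∃ (n m : ℕ) (v : Γ(X.left, A)ˣ), Q (inf_le_right : A ⊓ D ≤ D) f * Q inf_le_left (piOn X π A) ^ m =
        Q inf_le_left (piOn X π A ^ n * (v : Γ(X.left, A))) := by
    intro A hA hAne
    have e := hbD A
    have key : ∀ (B : X.left.Opens) (hB : B ≤ A) (_ : X.left.basicOpen (piOn X π A) = B) (y : Γ(X.left, B)), IsUnit y →
        ∃ (n m : ℕ) (v : Γ(X.left, A)ˣ), y * Q hB (piOn X π A) ^ m = Q hB (piOn X π A ^ n * (v : Γ(X.left, A))) := by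
      intro B hB heq y hy
      subst heq
      letI := hA.isLocalization_basicOpen (piOn X π A)
      exact exists_unit_form (isSMulRegular_piOn X hπ.ne_zero hA) (isPrime_piOn X hπ hconn hA hAne)
        Γ(X.left, X.left.basicOpen (piOn X π A)) y hy
    exact key _ inf_le_left e _ (hf.map (Q inf_le_right))
  obtain ⟨n, m, v, hv⟩ := hcls hW hne
  suffices hnm : n = m by
    refine ⟨v, ?_⟩
    subst hnm
    have hu : IsUnit (Q (inf_le_left : W ⊓ D ≤ W) (piOn X π W) ^ n) := by
      refine IsUnit.pow n ?_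
      have key : ∀ (B : X.left.Opens) (hB : B ≤ W) (_ : X.left.basicOpen (piOn X π W) = B), IsUnit (Q hB (piOn X π W)) := by
        intro B hB heq
        subst heq
        exact X.left.toRingedSpace.isUnit_res_basicOpen (piOn X π W)
      exact key _ _ (hbD W)
    refine hu.mul_left_injective ?_
    show Q inf_le_left (v : Γ(X.left, W)) * Q inf_le_left (piOn X π W) ^ n = Q inf_le_right f * Q inf_le_left (piOn X π W) ^ n
    rw [hv, map_mul, map_pow, mul_comm]
  let ee : Spec (CommRingCat.of V) ⟶ X.left := (η[X] : 𝟙_ (Over (Spec (CommRingCat.of V))) ⟶ X).left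
  have hee : ∀ y, X.hom (ee y) = y := fun y => congr($(Over.w (η[X] : 𝟙_ (Over (Spec (CommRingCat.of V))) ⟶ X)).base y)
  obtain ⟨W₀, hW₀, heW₀, -⟩ := exists_isAffineOpen_mem_and_subset (x := ee (IsLocalRing.closedPoint V))
    (U := (⊤ : X.left.Opens)) trivial
  have hne₀ : ((W₀ : Set X.left) ∩ specialFibre X).Nonempty := ⟨_, heW₀, hee _⟩
  obtain ⟨n₀, m₀, v₀, hv₀⟩ := hcls hW₀ hne₀
  have hnm₀ : n₀ = m₀ := by
    have htop : (⊤ : (Spec (CommRingCat.of V)).Opens) ≤ ee ⁻¹ᵁ W₀ := fun y _ =>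
      ((PrimeSpectrum.le_iff_specializes y (IsLocalRing.closedPoint V)).1
        (show y.asIdeal ≤ IsLocalRing.maximalIdeal V from IsLocalRing.le_maximalIdeal y.2.ne_top)).mem_open (ee ⁻¹ᵁ W₀).2 heW₀
    have hle : (PrimeSpectrum.basicOpen π : (Spec (CommRingCat.of V)).Opens) ≤ ee ⁻¹ᵁ (W₀ ⊓ D) :=
      fun y hy => ⟨htop (Set.mem_univ y), he hy⟩
    let Φ := (ee.appLE (W₀ ⊓ D) (PrimeSpectrum.basicOpen π) hle).hom
    have h1 : Φ (Q inf_le_right f) = 1 := by
      show (X.left.presheaf.map _ ≫ ee.appLE _ _ _).hom f = 1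
      rw [Scheme.Hom.map_appLE]
      exact hf1
    have h2 : ∀ x : Γ(X.left, W₀), Φ (Q inf_le_left x) = ((Spec (CommRingCat.of V)).presheaf.map
        (homOfLE (le_top : (PrimeSpectrum.basicOpen π : (Spec (CommRingCat.of V)).Opens) ≤ ⊤)).op).hom
          ((ee.appLE W₀ ⊤ htop).hom x) := fun x => by
      have e1 := congr(($(Scheme.Hom.map_appLE ee hle (homOfLE (inf_le_left : W₀ ⊓ D ≤ W₀)).op)).hom x)
      exact e1.trans (congr(($(Scheme.Hom.appLE_map ee htop (homOfLE (le_top : (PrimeSpectrum.basicOpen π : (Spec (CommRingCat.of V)).Opens) ≤ ⊤)).op)).hom x)).symm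
    set π' := (Scheme.ΓSpecIso (CommRingCat.of V)).inv.hom π
    have h3 : (ee.appLE W₀ ⊤ htop).hom (piOn X π W₀) = π' := by
      show (X.hom.appLE _ _ _ ≫ ee.appLE _ _ _).hom π' = π'
      rw [Scheme.Hom.appLE_comp_appLE]
      have : ee ≫ X.hom = 𝟙 _ := Over.w (η[X] : 𝟙_ (Over (Spec (CommRingCat.of V))) ⟶ X)
      have key : ∀ (g : Spec (CommRingCat.of V) ⟶ Spec (CommRingCat.of V)) (h : ⊤ ≤ g ⁻¹ᵁ ⊤), g = 𝟙 _ → (g.appLE ⊤ ⊤ h).hom π' = π' := by
        rintro g h rfl
        simp [Scheme.Hom.appLE]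
      exact key _ _ this
    have h4 := congrArg Φ hv₀
    rw [map_mul, h1, _root_.one_mul, map_pow, h2, h2, h3, map_mul, map_pow, h3] at h4
    have hinj : Function.Injective ((Spec (CommRingCat.of V)).presheaf.map
        (homOfLE (le_top : (PrimeSpectrum.basicOpen π : (Spec (CommRingCat.of V)).Opens) ≤ ⊤)).op).hom :=
      @map_injective_of_isIntegral _ _ _ _ _ ⟨⟨(⟨⊥, Ideal.isPrime_bot⟩ : PrimeSpectrum V), fun h => hπ.ne_zero (Ideal.mem_bot.mp h)⟩⟩
    have h5 : π' ^ m₀ = π' ^ n₀ * (ee.appLE W₀ ⊤ htop).hom (v₀ : Γ(X.left, W₀)) :=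
      hinj ((map_pow _ _ _).trans h4)
    set ε := (v₀.map (ee.appLE W₀ ⊤ htop).hom.toMonoidHom)
    have h6 : π' ^ m₀ = π' ^ n₀ * ε := h5
    have h7 := congrArg (Scheme.ΓSpecIso (CommRingCat.of V)).hom.hom h6
    rw [map_mul, map_pow, map_pow, show (Scheme.ΓSpecIso (CommRingCat.of V)).hom.hom π' = π by simp [π']] at h7
    have hass : Associated (π ^ n₀) (π ^ m₀) := ⟨ε.map (Scheme.ΓSpecIso (CommRingCat.of V)).hom.hom.toMonoidHom, h7.symm⟩
    exact le_antisymm ((pow_dvd_pow_iff hπ.ne_zero hπ.not_isUnit).mp hass.dvd)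
      ((pow_dvd_pow_iff hπ.ne_zero hπ.not_isUnit).mp hass.symm.dvd)
  obtain ⟨z, hzS, hzW₀, hzW⟩ : (specialFibre X ∩ ((W₀ : Set X.left) ∩ W)).Nonempty := by
    refine (isIrreducible_specialFibre X hconn).2 _ _ W₀.2 W.2 ?_ ?_ <;> rwa [Set.inter_comm]
  obtain ⟨A, hA, hzA, hAW⟩ := exists_isAffineOpen_mem_and_subset (x := z) (U := W₀ ⊓ W) ⟨hzW₀, hzW⟩
  have push : ∀ {B : X.left.Opens} (hAB : A ≤ B) (n m : ℕ) (v : Γ(X.left, B)ˣ),
      Q (inf_le_right : B ⊓ D ≤ D) f * Q inf_le_left (piOn X π B) ^ m = Q inf_le_left (piOn X π B ^ n * (v : Γ(X.left, B))) →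
      Q (inf_le_right : A ⊓ D ≤ D) f * Q inf_le_left (piOn X π A) ^ m = Q inf_le_left (piOn X π A ^ n * Q hAB (v : Γ(X.left, B))) := by
    intro B hAB n m v h
    have h' := congrArg (Q (inf_le_inf_right D hAB : A ⊓ D ≤ B ⊓ D)) h
    rw [show piOn X π A = Q hAB (piOn X π B) from (piOn_res X π hAB).symm]
    simp only [map_mul, map_pow, hQ] at h' ⊢
    exact h'
  have hinjA : Function.Injective (Q (inf_le_left : A ⊓ D ≤ A)) := by
    have key : ∀ (B : X.left.Opens) (hB : B ≤ A) (_ : X.left.basicOpen (piOn X π A) = B), Function.Injective (Q hB) := by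
      intro B hB heq
      subst heq
      letI := hA.isLocalization_basicOpen (piOn X π A)
      exact IsLocalization.injective _ (M := Submonoid.powers (piOn X π A)) (by
        rintro _ ⟨j, rfl⟩
        exact mem_nonZeroDivisors_iff_right.mpr fun b hb => ((isSMulRegular_piOn X hπ.ne_zero hA).pow j)
          (show piOn X π A ^ j * b = piOn X π A ^ j * 0 by rw [mul_zero, mul_comm, hb]))
    exact key _ inf_le_left (hbD A)
  have a₁ := push (hAW.trans inf_le_right) n m v hv
  have a₀ := push (hAW.trans inf_le_left) n₀ m₀ v₀ hv₀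
  subst hnm₀
  set p := piOn X π A
  set w := Q (hAW.trans inf_le_right) (v : Γ(X.left, W))
  set w₀ := Q (hAW.trans inf_le_left) (v₀ : Γ(X.left, W₀))
  have e1 : p ^ n * w * p ^ n₀ = p ^ n₀ * w₀ * p ^ m := hinjA (by
    simp only [map_mul, map_pow] at a₁ a₀ ⊢
    rw [← a₁, ← a₀]; ring)
  have e2 : p ^ n * w = p ^ m * w₀ := ((isSMulRegular_piOn X hπ.ne_zero hA).pow n₀) (by
    show p ^ n₀ * (p ^ n * w) = p ^ n₀ * (p ^ m * w₀)
    linear_combination e1)
  have hw : IsUnit w := v.isUnit.map _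
  have hw₀ : IsUnit w₀ := v₀.isUnit.map _
  have hass : Associated (p ^ n) (p ^ m) := by
    exact ((associated_mul_unit_right (p ^ n) w hw).trans (e2 ▸ (associated_mul_unit_right (p ^ m) w₀ hw₀).symm))
  have hp := isPrime_piOn X hπ hconn hA ⟨z, hzA, hzS⟩
  have hnu : ¬ IsUnit p := fun h => hp.ne_top (Ideal.span_singleton_eq_top.mpr h)
  by_contra hne'
  rcases Nat.lt_or_gt_of_ne hne' with hlt | hlt
  · obtain ⟨u, hu⟩ := hass
    refine hnu ((isUnit_pow_iff (Nat.sub_ne_zero_of_lt hlt)).mp ⟨u, ?_⟩)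
    exact ((isSMulRegular_piOn X hπ.ne_zero hA).pow n) (show p ^ n * u = p ^ n * p ^ (m - n) by
      rw [← pow_add, Nat.add_sub_cancel' hlt.le, hu])
  · obtain ⟨u, hu⟩ := hass.symm
    refine hnu ((isUnit_pow_iff (Nat.sub_ne_zero_of_lt hlt)).mp ⟨u, ?_⟩)
    exact ((isSMulRegular_piOn X hπ.ne_zero hA).pow m) (show p ^ m * u = p ^ m * p ^ (n - m) by
      rw [← pow_add, Nat.add_sub_cancel' hlt.le, hu])

end Groth.Agent.MultExt26
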