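import Mathlib.RingTheory.Localization.Away.Basic
import Mathlib.RingTheory.Ideal.Operations

/-! Units of `C[1/π]` when `π` is a prime nonzerodivisor. -/

set_option autoImplicit false

universe u

namespace Groth.Agent.MultExt26

variable {C : Type u} [CommRing C] {π : C}

theorem exists_eq_pow_mul (hnz : IsSMulRegular C π) (hp : (Ideal.span {π}).IsPrime) :
    ∀ (N : ℕ) (c d : C), c * d = π ^ N → ∃ (a : ℕ) (v : Cˣ), c = π ^ a * v := by
  intro N
  induction N with
  | zero =>
    intro c d h
    rw [pow_zero] at h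
    exact ⟨0, Units.mkOfMulEqOne _ _ h, by simp [Units.val_mkOfMulEqOne]⟩
  | succ N ih =>
    intro c d h
    have hm : c * d ∈ Ideal.span {π} := by
      rw [h, pow_succ]
      exact Ideal.mul_mem_left _ _ (Ideal.mem_span_singleton_self π)
    rcases hp.mem_or_mem hm with hc | hd
    · obtain ⟨c', rfl⟩ := Ideal.mem_span_singleton.mp hc
      obtain ⟨a, v, rfl⟩ := ih c' d (hnz (show π * (c' * d) = π * π ^ N by rw [← mul_assoc, h, pow_succ']))
      exact ⟨a + 1, v, by rw [pow_succ']; ring⟩
    · obtain ⟨d', rfl⟩ := Ideal.mem_span_singleton.mp hd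
      exact ih c d' (hnz (show π * (c * d') = π * π ^ N by
        rw [← pow_succ', ← h]
        ring))

/-- A unit of the localisation is a unit times an integral power of `π`. -/
theorem exists_unit_form (hnz : IsSMulRegular C π) (hp : (Ideal.span {π}).IsPrime)
    (S : Type u) [CommRing S] [Algebra C S] [IsLocalization.Away π S] (x : S) (hx : IsUnit x) :
    ∃ (n m : ℕ) (v : Cˣ), x * algebraMap C S π ^ m = algebraMap C S (π ^ n * v) := by
  obtain ⟨⟨c, _, m, rfl⟩, hc⟩ := IsLocalization.surj (Submonoid.powers π) x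
  obtain ⟨y, hy⟩ := hx.exists_right_inv
  obtain ⟨⟨d, _, k, rfl⟩, hd⟩ := IsLocalization.surj (Submonoid.powers π) y
  have hinj : Function.Injective (algebraMap C S) := by
    refine IsLocalization.injective S (M := Submonoid.powers π) fun a ha => ?_
    obtain ⟨j, rfl⟩ := ha
    exact mem_nonZeroDivisors_iff_right.mpr fun b hb => (hnz.pow j) (show π ^ j * b = π ^ j * 0 by rw [mul_zero, mul_comm, hb])
  have h : c * d = π ^ (m + k) := hinj (by
    rw [map_mul, ← hc, ← hd, pow_add, map_mul]
    calc x * algebraMap C S (π ^ m) * (y * algebraMap C S (π ^ k))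
        = (x * y) * (algebraMap C S (π ^ m) * algebraMap C S (π ^ k)) := by ring
      _ = _ := by rw [hy, one_mul])
  obtain ⟨n, v, hv⟩ := exists_eq_pow_mul hnz hp (m + k) c d h
  refine ⟨n, m, v, ?_⟩
  rw [← map_pow, hc, hv]

end Groth.Agent.MultExt26
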